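import Cfsg.Agent.Lib.CoprimeNilMax.Local
import Cfsg.Agent.Lib.Coprime.Action
import Cfsg.Agent.Lib.OddOrderTheorem.Basic
import Cfsg.Agent.Lib.Solvable.Basic
import Cfsg.Agent.Lib.FPQ.Basic
import Cfsg.Agent.Lib.PRankBound.Basic

/-!
# A coprime action with a nilpotent maximal invariant subgroup (helper25)

`solvable_of_nilpotent_maximal`: solvability, given that its 2-elements have class at most two.
-/

set_option autoImplicit false
set_option linter.unusedSectionVars false

namespace Cfsg.Agent.CoprimeNilMax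

open Subgroup
open scoped Pointwise commutatorElement

universe u v

variable {A : Type v} [Group A] [Finite A]

section Quotient

variable {G : Type u} [Group G] (φ : A →* MulAut G) (N : Subgroup G) [N.Normal] (hN : Inv φ N)

/-- The induced action on a quotient. -/
noncomputable def quotAction : A →* MulAut (G ⧸ N) :=
  { toFun := fun a => QuotientGroup.congr N N (φ a) (hN a)
    map_one' := MulEquiv.ext fun q => by
      induction q using QuotientGroup.induction_on with
      | _ g => show ((φ 1 g : G) : G ⧸ N) = g; rw [map_one]; rfl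
    map_mul' := fun a b => MulEquiv.ext fun q => by
      induction q using QuotientGroup.induction_on with
      | _ g => show ((φ (a * b) g : G) : G ⧸ N) = ((φ a (φ b g) : G) : G ⧸ N); rw [map_mul]; rfl }

theorem quotAction_apply (a : A) (g : G) :
    quotAction φ N hN a (QuotientGroup.mk' N g) = QuotientGroup.mk' N (φ a g) := rfl

end Quotient

variable {G : Type u} [Group G] [Finite G]

theorem solvable_of_normal_complement {p : ℕ} [Fact p.Prime] (h2 : Cfsg.HasNormalPComplement p G)
    (hp : p = 2) : Group.IsSolvable G := by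
  subst hp
  set N := Cfsg.pResidual 2 G with hN
  have : N.Normal := Transfer.pResidual_normal
  have hco : (Nat.card N).Coprime 2 := Transfer.hasNormalPComplement_iff_coprime.1 h2
  have : Group.IsSolvable N := OddOrderTheorem.solvable (Nat.coprime_two_right.1 hco)
  have : Group.IsSolvable (G ⧸ N) := by
    have := (Transfer.isPGroup_quotient_pResidual (G := G) (p := 2)).isNilpotent
    infer_instance
  exact (Solvable.isSolvable_subgroup_quotient_iff N).2 ⟨inferInstance, inferInstance⟩

theorem pResidual_inv (φ : A →* MulAut G) (p : ℕ) : Inv φ (Cfsg.pResidual p G) := fun a =>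
  Transfer.map_pResidual_equiv (φ a)

/-- The case of a maximal invariant subgroup of odd order. -/
theorem Setup.solvable_of_odd {φ : A →* MulAut G} {M : Subgroup G} (h : Setup φ M)
    (hcop : (Nat.card A).Coprime (Nat.card G)) (hA : Odd (Nat.card A)) (hM : Odd (Nat.card M)) :
    Group.IsSolvable G := by
  classical
  set S := (Nat.card M).primeFactors with hS
  have hprime : ∀ p : S, (p : ℕ).Prime := fun p => (Nat.mem_primeFactors.1 p.2).1
  let K : S → Subgroup G := fun p => Cfsg.pResidual p G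
  have hKn : ∀ p, (K p).Normal := fun p => Transfer.pResidual_normal
  set N := ⨅ p, K p with hN
  have : N.Normal := Subgroup.normal_iInf_normal hKn
  have hNinv : Inv φ N := inv_of_le fun a => le_iInf fun p =>
    (Subgroup.map_mono (iInf_le K p)).trans (pResidual_inv φ p a).le
  have hco : ∀ p : S, (Nat.card (K p)).Coprime p := fun p => by
    have := Fact.mk (hprime p)
    refine Transfer.hasNormalPComplement_iff_coprime.1 (h.complement_odd (fun e => ?_) (Nat.mem_primeFactors.1 p.2).2.1)
    exact Nat.not_even_iff_odd.2 hM (even_iff_two_dvd.2 (e ▸ (Nat.mem_primeFactors.1 p.2).2.1))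
  have hMN : (Nat.card M).Coprime (Nat.card N) := by
    refine Nat.coprime_of_dvd fun q hq hqM hqN => ?_
    have hqS : q ∈ S := Nat.mem_primeFactors.2 ⟨hq, hqM, Nat.card_pos.ne'⟩
    exact hq.ne_one (Nat.dvd_one.1 ((hco ⟨q, hqS⟩) ▸
      Nat.dvd_gcd (hqN.trans (Subgroup.card_dvd_of_le (iInf_le K ⟨q, hqS⟩))) dvd_rfl))
  have := h.nil
  by_cases hN1 : N = ⊥
  · let ψ : G →* (∀ p : S, G ⧸ K p) := MonoidHom.pi fun p => QuotientGroup.mk' (K p)
    have hinj : Function.Injective ψ := by
      refine (MonoidHom.ker_eq_bot_iff ψ).1 ((Subgroup.eq_bot_iff_forall _).2 fun x hx => ?_)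
      have : x ∈ N := Subgroup.mem_iInf.2 fun p => (QuotientGroup.eq_one_iff x).1 (congrFun hx p)
      rwa [hN1, Subgroup.mem_bot] at this
    have : ∀ p : S, Group.IsNilpotent (G ⧸ K p) := fun p => by
      have := Fact.mk (hprime p)
      exact (Transfer.isPGroup_quotient_pResidual (G := G) (p := (p : ℕ))).isNilpotent
    exact Group.isSolvable_of_isSolvable_injective hinj
  have hdisj : M ⊓ N = ⊥ := Coprime.inf_eq_bot hMN
  have hsupN : M ⊔ N = ⊤ := by
    by_contra hne
    refine hN1 (le_bot_iff.1 (hdisj ▸ le_inf ?_ le_rfl))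
    exact le_sup_right.trans (h.max _ le_sup_left hne fun a => by rw [Subgroup.map_sup, h.inv a, hNinv a]).le
  have : Group.IsSolvable (G ⧸ N) := by
    refine Group.isSolvable_of_surjective (f := (QuotientGroup.mk' N).comp M.subtype) fun y => ?_
    obtain ⟨g, rfl⟩ := QuotientGroup.mk'_surjective N y
    obtain ⟨m, hm, n, hn, rfl⟩ := Subgroup.mem_sup_of_normal_right.1 (show g ∈ M ⊔ N by rw [hsupN]; trivial)
    refine ⟨⟨m, hm⟩, ?_⟩
    show (m : G ⧸ N) = ((m * n : G) : G ⧸ N)
    rw [QuotientGroup.mk_mul_of_mem m hn]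
  suffices Group.IsSolvable N from (Solvable.isSolvable_subgroup_quotient_iff N).2 ⟨this, inferInstance⟩
  by_cases hNodd : Odd (Nat.card N)
  · exact OddOrderTheorem.solvable hNodd
  -- an invariant Sylow 2-subgroup of `N` under `M A`
  let _ : MulDistribMulAction A G := MulDistribMulAction.compHom G φ
  have : Finite (Coprime.toSemi A G) := Finite.of_equiv _ SemidirectProduct.equivProd.symm
  let i : G →* Coprime.toSemi A G := SemidirectProduct.inl
  have hi : Function.Injective i := SemidirectProduct.inl_injective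
  set EA := Coprime.embA A G
  have hEA : ∀ H : Subgroup G, Inv φ H → EA ≤ normalizer ((H.map i : Subgroup _) : Set (Coprime.toSemi A G)) := by
    intro H hH e he
    obtain ⟨a, rfl⟩ := he
    refine Coprime.mem_normalizer_of_forall ?_
    rintro _ ⟨x, hx, rfl⟩
    rw [Coprime.inr_conj_inl]
    exact ⟨φ a x, (hH a).le ⟨x, hx, rfl⟩, rfl⟩
  set B := M.map i ⊔ EA with hB
  have hBN : B ≤ normalizer ((N.map i : Subgroup _) : Set (Coprime.toSemi A G)) :=
    sup_le (le_trans (Subgroup.map_mono (by rw [Subgroup.normalizer_eq_top]; exact le_top))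
      (Subgroup.le_normalizer_map i)) (hEA N hNinv)
  have hBcop : (Nat.card B).Coprime (Nat.card (N.map i)) := by
    refine FPQ.coprime_sup (hEA M h.inv) ?_ ?_
    · rw [Coprime.card_embA, Subgroup.card_map_of_injective hi]
      exact hcop.coprime_dvd_right (Subgroup.card_subgroup_dvd_card N)
    · rw [Subgroup.card_map_of_injective hi, Subgroup.card_map_of_injective hi]; exact hMN
  have hBsolv : Group.IsSolvable B := OddOrderTheorem.solvable (Nat.coprime_two_right.1
    (FPQ.coprime_sup (hEA M h.inv) (by rw [Coprime.card_embA]; exact Nat.coprime_two_right.2 hA)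
      (by rw [Subgroup.card_map_of_injective hi]; exact Nat.coprime_two_right.2 hM)))
  obtain ⟨R, hR⟩ := Coprime.exists_invariant_sylow hBN hBcop (Or.inl hBsolv) 2
  set R₀ : Subgroup G := ((R : Subgroup (N.map i)).map (N.map i).subtype).comap i with hR₀
  have hR₀N : R₀ ≤ N := fun x hx => by
    obtain ⟨y, hy, he⟩ := (Subgroup.map_subtype_le _) hx
    exact hi he ▸ hy
  have hR₀M : M ≤ normalizer (R₀ : Set G) := fun m hm => Coprime.mem_normalizer_of_forall fun x hx => by
    show i (m * x * m⁻¹) ∈ (R : Subgroup (N.map i)).map (N.map i).subtype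
    rw [map_mul, map_mul, map_inv]
    exact (Subgroup.mem_normalizer_iff.1 (hR (mem_sup_left (Subgroup.mem_map_of_mem i hm))) _).1 hx
  have hR₀inv : Inv φ R₀ := inv_of_le fun a => by
    rintro _ ⟨x, hx, rfl⟩
    show i (φ a x) ∈ (R : Subgroup (N.map i)).map (N.map i).subtype
    rw [show φ a x = a • x from rfl, show i (a • x) = _ from (Coprime.inr_conj_inl a x).symm]
    exact (Subgroup.mem_normalizer_iff.1 (hR (mem_sup_right ⟨a, rfl⟩)) _).1 hx
  have hR₀p : IsPGroup 2 R₀ := (R.2.map _).comap_of_injective i hi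
  have hR₀ne : R₀ ≠ ⊥ := fun e => by
    refine R.ne_bot_of_dvd_card (by
      rw [Subgroup.card_map_of_injective hi]; exact even_iff_two_dvd.1 (Nat.not_odd_iff_even.1 hNodd)) ?_
    rw [eq_bot_iff]
    rintro ⟨r, x, hxN, rfl⟩ hr
    have : x ∈ R₀ := ⟨⟨i x, x, hxN, rfl⟩, hr, rfl⟩
    rw [e, Subgroup.mem_bot] at this
    subst this
    exact Subgroup.mem_bot.2 (Subtype.ext (map_one i))
  have hMR : M ⊔ R₀ = ⊤ := by
    by_contra hne
    refine hR₀ne (le_bot_iff.1 (hdisj ▸ le_inf ?_ hR₀N))
    exact le_sup_right.trans (h.max _ le_sup_left hne fun a => by rw [Subgroup.map_sup, h.inv a, hR₀inv a]).le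
  refine Solvable.isSolvable_of_isPGroup (p := 2) (hR₀p.to_le fun n hn => ?_)
  have h1 : n ∈ R₀ ⊔ M := by rw [sup_comm, hMR]; trivial
  obtain ⟨r, hr, m, hm, rfl⟩ := (Coprime.mem_sup_iff hR₀M).1 h1
  have hmN : m ∈ M ⊓ N := ⟨hm, (N.mul_mem_cancel_left (hR₀N hr)).1 hn⟩
  rw [hdisj, Subgroup.mem_bot] at hmN
  rwa [hmN, mul_one]

theorem odd_orderOf {φ : A →* MulAut G} (hA : Odd (Nat.card A)) (a : A) : Odd (orderOf (φ a)) :=
  hA.of_dvd_nat ((orderOf_map_dvd φ a).trans (orderOf_dvd_natCard a))

theorem solvable_aux (n : ℕ) : ∀ {G : Type u} [Group G] [Finite G] (φ : A →* MulAut G),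
    (Nat.card A).Coprime (Nat.card G) → ∀ M : Subgroup G, M ≠ ⊤ → Inv φ M →
    (∀ H : Subgroup G, M ≤ H → H ≠ ⊤ → Inv φ H → H = M) → Group.IsNilpotent M →
    (∀ a ∈ M, ∀ b ∈ M, ∀ c ∈ M, IsPElt 2 a → IsPElt 2 b → IsPElt 2 c → ⁅a, b⁆ * c = c * ⁅a, b⁆) →
    Nat.card G = n → Group.IsSolvable G := by
  induction n using Nat.strong_induction_on with
  | _ n ih =>
    intro G _ _ φ hcop M hMtop hMinv hMmax hnil hcl hn
    by_cases hGodd : Odd (Nat.card G)
    · exact OddOrderTheorem.solvable hGodd
    have hA : Odd (Nat.card A) := Nat.coprime_two_right.1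
      (hcop.coprime_dvd_right (even_iff_two_dvd.1 (Nat.not_odd_iff_even.1 hGodd)))
    by_cases hcore : ∀ N : Subgroup G, N.Normal → Inv φ N → N ≤ M → N = ⊥
    · have h : Setup φ M := ⟨hMtop, hMinv, hMmax, hnil, hcore, hcl⟩
      by_cases hM : Odd (Nat.card M)
      · exact h.solvable_of_odd hcop hA hM
      · exact solvable_of_normal_complement (h.complement_two (odd_orderOf hA)
          (even_iff_two_dvd.1 (Nat.not_odd_iff_even.1 hM))) rfl
    push Not at hcore
    obtain ⟨N, hNn, hNinv, hNM, hN1⟩ := hcore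
    have := hNn
    have := hnil
    set π := QuotientGroup.mk' N with hπ
    have hπs := QuotientGroup.mk'_surjective N
    have hc : (M.map π).comap π = M := by rw [Subgroup.comap_map_eq, hπ, QuotientGroup.ker_mk', sup_eq_left.2 hNM]
    have : Group.IsNilpotent (M.map π) :=
      Group.nilpotent_of_surjective (π.subgroupMap M) (MonoidHom.subgroupMap_surjective _ M)
    have hlift : ∀ z ∈ M.map π, IsPElt 2 z → ∃ m ∈ M, IsPElt 2 m ∧ π m = z := by
      rintro _ ⟨m, hm, rfl⟩ ⟨k, hk⟩
      obtain ⟨a, b, rfl, ha, hb, ⟨i, hi⟩, hbco⟩ := Transfer.exists_pPart_mul (p := 2) m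
      refine ⟨a, (zpowers_le.2 hm) ha, ⟨i, by rw [← hi, pow_orderOf_eq_one]⟩, ?_⟩
      have hb1 : π b = 1 := by
        refine orderOf_eq_one_iff.1 (Nat.eq_one_of_dvd_coprimes (hbco.pow_right k) (orderOf_map_dvd π b) ?_)
        obtain ⟨j, hj⟩ := hb
        refine orderOf_dvd_of_pow_eq_one ?_
        have hj' : (a * b) ^ j = b := hj
        rw [show π b = π (a * b) ^ j by rw [← map_zpow, hj'], ← zpow_natCast, ← zpow_mul, mul_comm,
          zpow_mul, zpow_natCast, hk, one_zpow]
      rw [map_mul, hb1, mul_one]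
    have : Group.IsSolvable (G ⧸ N) := by
      refine ih _ (hn ▸ Solvable.card_quotient_lt hN1) (quotAction φ N hNinv)
        (hcop.coprime_dvd_right (Subgroup.card_quotient_dvd_card N)) (M.map π) (fun e => hMtop ?_) ?_ ?_
        inferInstance ?_ rfl
      · rw [← hc, e, Subgroup.comap_top]
      · refine inv_of_le fun a => ?_
        rintro _ ⟨_, ⟨m, hm, rfl⟩, rfl⟩
        exact ⟨φ a m, (hMinv a).le ⟨m, hm, rfl⟩, (quotAction_apply φ N hNinv a m).symm⟩
      · intro H hMH hH hHinv
        have h1 : H.comap π = M := by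
          refine hMmax _ (hc.ge.trans (Subgroup.comap_mono hMH)) (fun e => hH ?_) (inv_of_le fun a => ?_)
          · rw [← Subgroup.map_comap_eq_self_of_surjective hπs H, e, Subgroup.map_top_of_surjective _ hπs]
          · rintro _ ⟨x, hx, rfl⟩
            exact (hHinv a).le ⟨π x, hx, quotAction_apply φ N hNinv a x⟩
        rw [← Subgroup.map_comap_eq_self_of_surjective hπs H, h1]
      · intro a ha b hb c hc' hap hbp hcp
        obtain ⟨a', ha', hap', rfl⟩ := hlift a ha hap
        obtain ⟨b', hb', hbp', rfl⟩ := hlift b hb hbp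
        obtain ⟨c', hc'', hcp', rfl⟩ := hlift c hc' hcp
        rw [← map_commutatorElement, ← map_mul, ← map_mul, hcl a' ha' b' hb' c' hc'' hap' hbp' hcp']
    have : Group.IsSolvable N := Solvable.isSolvable_of_le hNM
    exact (Solvable.isSolvable_subgroup_quotient_iff N).2 ⟨inferInstance, inferInstance⟩

/-- A coprime action with a nilpotent maximal invariant subgroup whose Sylow 2-subgroups have class
at most two forces solvability. -/
theorem solvable_of_nilpotent_maximal (φ : A →* MulAut G) (hcop : (Nat.card A).Coprime (Nat.card G))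
    (M : Subgroup G) (hMtop : M ≠ ⊤) (hMinv : Inv φ M)
    (hMmax : ∀ H : Subgroup G, M ≤ H → H ≠ ⊤ → Inv φ H → H = M) (hnil : Group.IsNilpotent M)
    (h2 : ∀ S : Sylow 2 M, Group.nilpotencyClass (S : Subgroup M) ≤ 2) : Group.IsSolvable G := by
  refine solvable_aux _ φ hcop M hMtop hMinv hMmax hnil ?_ rfl
  obtain ⟨S⟩ := (inferInstance : Nonempty (Sylow 2 M))
  have := hnil
  have hSn : (S : Subgroup M).Normal :=
    Sylow.normal_of_normalizerCondition Group.normalizerCondition_of_isNilpotent S
  have hmem : ∀ x (hx : x ∈ M), IsPElt 2 x → (⟨x, hx⟩ : M) ∈ (S : Subgroup M) := by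
    rintro x hx ⟨k, hk⟩
    have hz : IsPGroup 2 (zpowers (⟨x, hx⟩ : M)) := by
      rintro ⟨z, j, rfl⟩
      refine ⟨k, Subtype.ext ?_⟩
      show ((⟨x, hx⟩ : M) ^ j) ^ 2 ^ k = 1
      rw [← zpow_natCast, ← zpow_mul, mul_comm, zpow_mul, zpow_natCast,
        show (⟨x, hx⟩ : M) ^ 2 ^ k = 1 from Subtype.ext hk, one_zpow]
    exact (S.3 (S.2.to_sup_of_normal_left hz) le_sup_left).le (mem_sup_right (mem_zpowers _))
  intro a ha b hb c hc hap hbp hcp
  have := S.2.isNilpotent
  have hle := PRankBound.commutator_le_center_of_class_le_two (h2 S)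
  have h1 := Subgroup.mem_center_iff.1 (hle (Subgroup.commutator_mem_commutator
    (Subgroup.mem_top (⟨_, hmem a ha hap⟩ : (S : Subgroup M))) (Subgroup.mem_top ⟨_, hmem b hb hbp⟩)))
    ⟨_, hmem c hc hcp⟩
  have h1' := congrArg (fun z : (S : Subgroup M) => ((z : M) : G)) h1
  simpa [commutatorElement_def] using h1'.symm

end Cfsg.Agent.CoprimeNilMax
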