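import Cfsg.Agent.Lib.Transfer.Centric
import Cfsg.Agent.Lib.Coprime.Invariant
import Cfsg.Agent.Lib.Coprime.InvolutionEigen
import Cfsg.Agent.Lib.Solvable.Basic

/-!
# An inverted element of odd order modulo `D C(D)` (helper25)

`exists_inverted`: if no subgroup strictly between `D` and the Sylow 2-subgroup `S` has nontrivial
automorphisms of odd order, an involution of `S / D` inverts an element of odd order and `S / D`
has only one involution.
-/

set_option autoImplicit false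
set_option linter.unusedSectionVars false

namespace Cfsg.Agent.CoprimeNilMax

open Subgroup
open scoped Pointwise commutatorElement

variable {H : Type*} [Group H] [Finite H]

theorem mem_of_odd_mem_sup {D C : Subgroup H} [C.Normal] (hD : IsPGroup 2 D) {h : H}
    (hco : (orderOf h).Coprime 2) (hh : h ∈ D ⊔ C) : h ∈ C := by
  obtain ⟨d, hd, c, hc, rfl⟩ := Subgroup.mem_sup_of_normal_right.1 hh
  obtain ⟨k, hk⟩ := hD ⟨d, hd⟩
  refine Transfer.mem_of_pow_mem_of_coprime (a := orderOf (d * c)) (b := 2 ^ k) (hco.pow_right k)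
    (by rw [pow_orderOf_eq_one]; exact one_mem _) ?_
  rw [← QuotientGroup.eq_one_iff, QuotientGroup.mk_pow, QuotientGroup.mk_mul_of_mem d hc,
    ← QuotientGroup.mk_pow, QuotientGroup.eq_one_iff, show d ^ 2 ^ k = 1 from congrArg Subtype.val hk]
  exact one_mem _

theorem exists_inverted (S : Sylow 2 H) (D C : Subgroup H) [D.Normal] [C.Normal]
    (hDS : D ≤ S) (hab : ∀ a ∈ (S : Subgroup H), ∀ b ∈ (S : Subgroup H), ⁅a, b⁆ ∈ D)
    (hCS : (S : Subgroup H) ⊓ C ≤ D) (hne : D ≠ S)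
    (hn : ∃ n : H, (orderOf n).Coprime 2 ∧ n ∉ C)
    (hX : ∀ X : Subgroup H, D < X → X ≤ S → ∀ m ∈ normalizer (X : Set H), (orderOf m).Coprime 2 → m ∈ C) :
    ∃ t ∈ (S : Subgroup H), t ∉ D ∧ t * t ∈ D ∧ ∃ y : H, (orderOf y).Coprime 2 ∧ y ∉ C ∧
      t * y * t⁻¹ * y ∈ D ⊔ C ∧
      ∀ s ∈ (S : Subgroup H), s ∈ D ∨ s * t ∈ D ∨ ∃ w ∈ (S : Subgroup H), w * w * t ∈ D := by
  set N := D ⊔ C with hN
  set π := QuotientGroup.mk' N with hπ
  have hker : ∀ x, π x = 1 ↔ x ∈ N := fun x => QuotientGroup.eq_one_iff x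
  have hSN : ∀ x ∈ (S : Subgroup H), x ∈ N → x ∈ D := by
    intro x hx hxN
    obtain ⟨d, hd, c, hc, rfl⟩ := Subgroup.mem_sup_of_normal_right.1 hxN
    exact D.mul_mem hd (hCS ⟨((S : Subgroup H).mul_mem_cancel_left (hDS hd)).1 hx, hc⟩)
  have hodd : ∀ h : H, (orderOf h).Coprime 2 → h ∈ N → h ∈ C := fun h =>
    mem_of_odd_mem_sup (S.2.to_le hDS)
  -- elements normalising the image of `X`
  have P2 : ∀ X : Subgroup H, D < X → X ≤ S → ∀ h : H, π h ∈ normalizer ((X.map π : Subgroup _) : Set (H ⧸ N)) →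
      ∃ k, π h ^ 2 ^ k = 1 := by
    intro X hDX hXS h hh
    set K := X ⊔ N with hK
    have hKeq : (X.map π).comap π = K := by rw [Subgroup.comap_map_eq, hπ, QuotientGroup.ker_mk']
    have hhK : h ∈ normalizer (K : Set H) := by
      rw [← hKeq, ← Subgroup.comap_normalizer_eq_of_surjective _ (QuotientGroup.mk'_surjective N)]
      exact hh
    have hidx : ¬ 2 ∣ (X.subgroupOf K).index := by
      have hD : (S : Subgroup H) ⊓ N = D :=
        le_antisymm (fun x hx => hSN x hx.1 hx.2) (le_inf hDS le_sup_left)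
      have hXN : X ⊓ N = D := le_antisymm (hD ▸ inf_le_inf_right _ hXS) (le_inf hDX.le le_sup_left)
      have h1 := Solvable.card_sup_mul_card_inf X N
      rw [hXN, ← hK] at h1
      have h2 : D.relIndex N * Nat.card D = Nat.card N := by
        rw [Subgroup.relIndex, mul_comm, ← Nat.card_congr
          (subgroupOfEquivOfLe (le_sup_left : D ≤ N)).toEquiv, Subgroup.card_mul_index]
      have h3 : X.relIndex K * Nat.card X = Nat.card K := by
        rw [Subgroup.relIndex, mul_comm, ← Nat.card_congr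
          (subgroupOfEquivOfLe (le_sup_left : X ≤ K)).toEquiv, Subgroup.card_mul_index]
      have h4 : X.relIndex K = D.relIndex N := Nat.eq_of_mul_eq_mul_right
        (Nat.mul_pos (Nat.card_pos (α := X)) (Nat.card_pos (α := D))) (by
          rw [← mul_assoc, h3, h1, ← h2]; ring)
      show ¬ 2 ∣ X.relIndex K
      rw [h4, ← hD, Subgroup.inf_relIndex_right]
      exact Transfer.not_dvd_relIndex_inf S.not_dvd_index
    let P : Sylow 2 K := ((S.2.to_le hXS).comap_of_injective K.subtype K.subtype_injective).toSylow hidx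
    have hP : (P : Subgroup K).map K.subtype = X := by
      show (X.subgroupOf K).map K.subtype = X
      exact map_subgroupOf_eq_of_le le_sup_left
    obtain ⟨Q, hQ⟩ := Coprime.exists_sylow_conj_eq hhK P
    obtain ⟨k, hk⟩ := MulAction.exists_smul_eq K P Q
    rw [← hk, Coprime.map_subtype_smul, hP] at hQ
    obtain ⟨x, hx, n, hn', hxn⟩ := Subgroup.mem_sup_of_normal_right.1 k.2
    have hm : x * ((k : H)⁻¹ * h) ∈ normalizer (X : Set H) := by
      refine mul_mem (Subgroup.le_normalizer hx) (Coprime.mem_normalizer_of_conj_eq ?_)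
      rw [map_mul, mul_smul, ← hQ, ← mul_smul, ← map_mul, inv_mul_cancel, map_one, one_smul]
    have hπm : π (x * ((k : H)⁻¹ * h)) = π h := by
      rw [← hxn, mul_inv_rev, map_mul, map_mul, map_mul, map_inv, map_inv, (hker n).2 hn']
      group
    obtain ⟨a, b, hab', -, hb, ⟨i, hi⟩, hbco⟩ := Transfer.exists_pPart_mul (p := 2) (x * ((k : H)⁻¹ * h))
    have hbN : π b = 1 := (hker b).2 (mem_sup_right (hX X hDX hXS b
      ((zpowers_le.2 hm) hb) hbco))
    refine ⟨i, ?_⟩
    rw [← hπm, hab', map_mul, hbN, mul_one, ← map_pow, ← hi, pow_orderOf_eq_one, map_one]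
  set Sb : Sylow 2 (H ⧸ N) := S.mapSurjective (QuotientGroup.mk'_surjective N) with hSb
  have hSbc : (Sb : Subgroup (H ⧸ N)) = (S : Subgroup H).map π := Sylow.coe_mapSurjective _ _
  have hcomm : ∀ a ∈ (S : Subgroup H), ∀ b ∈ (S : Subgroup H), π a * π b = π b * π a := fun a ha b hb => by
    rw [← commutatorElement_eq_one_iff_mul_comm, ← map_commutatorElement]
    exact (hker _).2 (mem_sup_left (hab a ha b hb))
  have hlt : D < S := lt_of_le_of_ne hDS hne
  have hNS : normalizer ((Sb : Subgroup (H ⧸ N)) : Set (H ⧸ N)) ≤ (Sb : Subgroup (H ⧸ N)) := by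
    intro q hq
    obtain ⟨h, rfl⟩ := QuotientGroup.mk'_surjective N q
    rw [hSbc] at hq
    obtain ⟨k, hk⟩ := P2 S hlt le_rfl h hq
    have hz : IsPGroup 2 (zpowers (π h)) := by
      rintro ⟨z, j, rfl⟩
      refine ⟨k, Subtype.ext ?_⟩
      show (π h ^ j) ^ 2 ^ k = 1
      rw [← zpow_natCast, ← zpow_mul, mul_comm, zpow_mul, zpow_natCast, hk, one_zpow]
    have hsup := Sb.3 (Sb.2.to_sup_of_normal_left' hz (zpowers_le.2 (hSbc ▸ hq))) le_sup_left
    exact hsup.le (mem_sup_right (mem_zpowers _))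
  have hP : normalizer ((Sb : Subgroup (H ⧸ N)) : Set (H ⧸ N)) ≤ centralizer (Sb : Set (H ⧸ N)) := by
    intro q hq
    refine Subgroup.mem_centralizer_iff.2 fun r hr => ?_
    obtain ⟨a, ha, rfl⟩ := (hSbc ▸ hNS hq : q ∈ (S : Subgroup H).map π)
    obtain ⟨b, hb, rfl⟩ := (hSbc ▸ (hr : r ∈ (Sb : Subgroup (H ⧸ N))) : r ∈ (S : Subgroup H).map π)
    exact hcomm b hb a ha
  set Kb := (MonoidHom.transferSylow Sb hP).ker with hKb
  have hKodd : (Nat.card Kb).Coprime 2 :=
    ((Nat.prime_two.coprime_iff_not_dvd).2 (MonoidHom.not_dvd_card_ker_transferSylow Sb hP)).symm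
  obtain ⟨n, hnco, hnC⟩ := hn
  have hn1 : π n ≠ 1 := fun e => hnC (hodd n hnco ((hker n).1 e))
  have hnK : π n ∈ Kb := by
    show MonoidHom.transferSylow Sb hP (π n) = 1
    obtain ⟨j, hj⟩ := IsPGroup.iff_orderOf.1 Sb.2 (MonoidHom.transferSylow Sb hP (π n))
    refine orderOf_eq_one_iff.1 (Nat.eq_one_of_dvd_coprimes (hnco.pow_right j)
      ((orderOf_map_dvd _ _).trans (orderOf_map_dvd π n)) hj.dvd)
  -- only 2-elements centralise a nontrivial element of `S / D`
  have hfix : ∀ s ∈ (S : Subgroup H), s ∉ D → ∀ q ∈ Kb, π s * q = q * π s → q = 1 := by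
    intro s hs hsD q hq hsq
    obtain ⟨h, rfl⟩ := QuotientGroup.mk'_surjective N q
    have hDX : D < D ⊔ zpowers s := lt_of_le_of_ne le_sup_left fun e =>
      hsD (e.ge (mem_sup_right (mem_zpowers s)))
    obtain ⟨k, hk⟩ := P2 _ hDX (sup_le hDS (zpowers_le.2 hs)) h (by
      refine Subgroup.centralizer_le_normalizer _ ?_
      rw [Subgroup.map_sup, show D.map π = ⊥ by
        rw [Subgroup.map_eq_bot_iff, hπ, QuotientGroup.ker_mk']; exact le_sup_left, bot_sup_eq,
        MonoidHom.map_zpowers, Subgroup.mem_centralizer_iff]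
      intro z hz
      obtain ⟨j, rfl⟩ := Subgroup.mem_zpowers_iff.1 hz
      exact ((show Commute (π s) (π h) from hsq).zpow_left j).eq)
    refine orderOf_eq_one_iff.1 (Nat.eq_one_of_dvd_coprimes (hKodd.pow_right k) ?_
      (orderOf_dvd_of_pow_eq_one hk))
    rw [← Subgroup.orderOf_mk (π h) hq]
    exact orderOf_dvd_natCard _
  -- an involution
  obtain ⟨s₀, hs₀, hs₀D⟩ := SetLike.exists_of_lt hlt
  obtain ⟨k, hk⟩ := S.2 ⟨s₀, hs₀⟩
  have hk' : s₀ ^ 2 ^ k = 1 := congrArg Subtype.val hk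
  have hex : ∃ j, s₀ ^ 2 ^ j ∈ D := ⟨k, by rw [hk']; exact one_mem _⟩
  obtain ⟨t, ht, htD, htt⟩ : ∃ t ∈ (S : Subgroup H), t ∉ D ∧ t * t ∈ D := by
    classical
    set j := Nat.find hex with hj
    have hj0 : j ≠ 0 := fun e => hs₀D (by have := Nat.find_spec hex; rwa [← hj, e, pow_zero, pow_one] at this)
    obtain ⟨i, hi⟩ := Nat.exists_eq_succ_of_ne_zero hj0
    refine ⟨s₀ ^ 2 ^ i, pow_mem hs₀ _, fun e => Nat.find_min hex (by omega) e, ?_⟩
    have := Nat.find_spec hex
    rwa [← hj, hi, pow_succ, pow_mul, pow_two] at this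
  have hinv : ∀ s ∈ (S : Subgroup H), s ∉ D → s * s ∈ D → π s * π n * (π s)⁻¹ = (π n)⁻¹ := by
    intro s hs hsD hss
    have h2 : π s * π s = 1 := by rw [← map_mul]; exact (hker _).2 (mem_sup_left hss)
    let f : Kb →* Kb := (MulAut.conjNormal (π s)).toMonoidHom
    have hf : ∀ x : Kb, ((f x : Kb) : H ⧸ N) = π s * x * (π s)⁻¹ := fun x => MulAut.conjNormal_apply _ _
    have h := InvolutionEigen.inverts_of_fpf f (fun x => Subtype.ext (by
      rw [hf, hf, show π s * (π s * ↑x * (π s)⁻¹) * (π s)⁻¹ = π s * π s * x * (π s * π s)⁻¹ by group, h2,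
        one_mul, inv_one, mul_one]))
      (fun x hx => Subtype.ext (hfix s hs hsD x x.2
        (mul_inv_eq_iff_eq_mul.1 ((hf x).symm.trans (congrArg Subtype.val hx))))) ⟨π n, hnK⟩
    have := congrArg Subtype.val h
    rwa [hf] at this
  refine ⟨t, ht, htD, htt, n, hnco, hnC, (hker _).1 ?_, fun s hs => ?_⟩
  · rw [map_mul, map_mul, map_mul, map_inv, hinv t ht htD htt, inv_mul_cancel]
  have huniq : ∀ r ∈ (S : Subgroup H), r ∉ D → r * r ∈ D → r * t ∈ D := by
    intro r hr hrD hrr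
    by_contra hcon
    refine hn1 (hfix _ (mul_mem hr ht) hcon _ hnK ?_)
    have e1 := hinv r hr hrD hrr
    have e2 := hinv t ht htD htt
    refine mul_inv_eq_iff_eq_mul.1 ?_
    rw [map_mul, show π r * π t * π n * (π r * π t)⁻¹ = π r * (π t * π n * (π t)⁻¹) * (π r)⁻¹ by group, e2]
    calc π r * (π n)⁻¹ * (π r)⁻¹ = (π r * π n * (π r)⁻¹)⁻¹ := by group
      _ = π n := by rw [e1, inv_inv]
  by_cases hsD : s ∈ D
  · exact Or.inl hsD
  classical
  obtain ⟨k, hk⟩ := S.2 ⟨s, hs⟩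
  have hex' : ∃ j, s ^ 2 ^ j ∈ D := ⟨k, by rw [show s ^ 2 ^ k = 1 from congrArg Subtype.val hk]; exact one_mem _⟩
  set j := Nat.find hex' with hj
  have hspec : s ^ 2 ^ j ∈ D := Nat.find_spec hex'
  match hjj : j with
  | 0 => exact absurd (by rwa [pow_zero, pow_one] at hspec) hsD
  | 1 => exact Or.inr (Or.inl (huniq s hs hsD (by rwa [pow_one, pow_two] at hspec)))
  | i + 2 =>
    refine Or.inr (Or.inr ⟨s ^ 2 ^ i, pow_mem hs _, ?_⟩)
    have e : s ^ 2 ^ i * s ^ 2 ^ i = s ^ 2 ^ (i + 1) := by rw [← pow_add, ← two_mul, ← pow_succ']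
    rw [e]
    refine huniq _ (pow_mem hs _) (Nat.find_min hex' (by omega)) ?_
    rwa [← pow_two, ← pow_mul, ← pow_succ]

end Cfsg.Agent.CoprimeNilMax
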