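import Cfsg.Agent.Lib.CoprimeNilMax.Pairs
import Cfsg.Agent.Lib.CoprimeNilMax.Inverted

/-!
# An essential subgroup of a Sylow 2-subgroup of class two (helper25)

`exists_ess`: without a normal 2-complement and with `N(S)` acting as a 2-group on `S`, there are
`Ess S D U y` with `y` of odd order not centralising `D`.
-/

set_option autoImplicit false
set_option linter.unusedSectionVars false

namespace Cfsg.Agent.CoprimeNilMax

open Subgroup
open scoped Pointwise commutatorElement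

variable {G : Type*} [Group G] [Finite G]

/-- The core computation: `y` of odd order inverted by `t` modulo `D C(D)`. -/
theorem ess_of_inverted {S D : Subgroup G} (hS2 : IsPGroup 2 S) (hDS : D ≤ S)
    (hz : ∀ z ∈ S, (∀ s ∈ S, z * s = s * z) → z ∈ D)
    (hcl : ∀ a ∈ S, ∀ b ∈ S, ∀ c ∈ S, ⁅a, b⁆ * c = c * ⁅a, b⁆)
    {t y : G} (ht : t ∈ S) (htt : t * t ∈ D) (hyN : y ∈ normalizer (D : Set G))
    (hyco : (orderOf y).Coprime 2) (hyC : y ∉ centralizer (D : Set G))
    (hty : t * y * t⁻¹ * y ∈ D ⊔ centralizer (D : Set G))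
    (hall : ∀ s ∈ S, s ∈ D ∨ s * t ∈ D ∨ ∃ w ∈ S, w * w * t ∈ D) :
    ∃ U : Subgroup G, Ess S D U y := by
  set C := centralizer (D : Set G) with hC
  set ZD := D ⊓ C with hZD
  have hzc : ∀ a ∈ S, ∀ b ∈ S, ⁅a, b⁆ ∈ ZD := fun a ha b hb => by
    have hab : ⁅a, b⁆ ∈ S := by
      rw [commutatorElement_def]; exact mul_mem (mul_mem (mul_mem ha hb) (inv_mem ha)) (inv_mem hb)
    exact ⟨hz _ hab fun s hs => hcl a ha b hb s hs,
      Subgroup.mem_centralizer_iff.2 fun d hd => (hcl a ha b hb d (hDS hd)).symm⟩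
  have hcomm : ∀ z ∈ ZD, ∀ d ∈ D, z * d = d * z := fun z hz' d hd =>
    (Subgroup.mem_centralizer_iff.1 hz'.2 d hd).symm
  have hND : ∀ s ∈ S, s ∈ normalizer (D : Set G) := fun s hs =>
    Coprime.mem_normalizer_of_forall fun d hd => by
      have := D.mul_mem (hzc s hs d (hDS hd)).1 hd
      rwa [commutatorElement_def, inv_mul_cancel_right] at this
  have hCN : ∀ g ∈ normalizer (D : Set G), ∀ c ∈ C, g * c * g⁻¹ ∈ C := fun g hg c hc =>
    Subgroup.mem_centralizer_iff.2 fun d hd => by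
      have h1 := Subgroup.mem_centralizer_iff.1 hc _ ((Subgroup.mem_normalizer_iff''.1 hg d).1 hd)
      calc d * (g * c * g⁻¹) = g * ((g⁻¹ * d * g) * c) * g⁻¹ := by group
        _ = g * (c * (g⁻¹ * d * g)) * g⁻¹ := by rw [h1]
        _ = g * c * g⁻¹ * d := by group
  have hconjD : ∀ g ∈ normalizer (D : Set G), ∀ d ∈ D, g * d * g⁻¹ ∈ D := fun g hg d hd =>
    (Subgroup.mem_normalizer_iff.1 hg d).1 hd
  have hZN : ∀ g ∈ normalizer (D : Set G), ∀ z ∈ ZD, g * z * g⁻¹ ∈ ZD := fun g hg z hz' =>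
    ⟨hconjD g hg z hz'.1, hCN g hg z hz'.2⟩
  -- conjugation by elements of `D C` is trivial on `Z(D)`
  have htriv : ∀ x ∈ D ⊔ C, ∀ z ∈ ZD, x * z * x⁻¹ = z := by
    intro x hx z hz'
    have hle : D ⊔ C ≤ centralizer ({z} : Set G) := sup_le
      (fun d hd => Subgroup.mem_centralizer_singleton_iff.2 (hcomm z hz' d hd).symm)
      (fun c hc => Subgroup.mem_centralizer_singleton_iff.2 (Subgroup.mem_centralizer_iff.1 hc z hz'.1).symm)
    rw [Subgroup.mem_centralizer_singleton_iff.1 (hle hx), mul_inv_cancel_right]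
  -- `y` lies in the subgroups of `N(D)` it normalises which contain `t`, `D` and `C(D)`
  have hyP : ∀ P : Subgroup G, t ∈ P → D ⊔ C ≤ P → y ∈ normalizer (P : Set G) → y ∈ P := by
    intro P htP hDC hyn
    have h1 : y * t⁻¹ * y⁻¹ ∈ P := (Subgroup.mem_normalizer_iff.1 hyn _).1 (inv_mem htP)
    have h2 : (t * y * t⁻¹ * y⁻¹) ∈ P := by
      rw [show t * y * t⁻¹ * y⁻¹ = t * (y * t⁻¹ * y⁻¹) by group]; exact mul_mem htP h1
    have h3 : y ^ 2 ∈ P := by
      have h4 := mul_mem (inv_mem h2) (hDC hty)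
      rwa [show (t * y * t⁻¹ * y⁻¹)⁻¹ * (t * y * t⁻¹ * y) = y ^ 2 by rw [pow_two]; group] at h4
    exact Transfer.mem_of_pow_mem_of_coprime hyco (by rw [pow_orderOf_eq_one]; exact one_mem _) h3
  -- commutators with `y` lie in `Z(D)`
  have hf : ∀ d ∈ D, y * d * y⁻¹ * d⁻¹ ∈ ZD := by
    let P : Subgroup G :=
      { carrier := {g | g ∈ normalizer (D : Set G) ∧ ∀ d ∈ D, g * d * g⁻¹ * d⁻¹ ∈ ZD}
        one_mem' := ⟨one_mem _, fun d _ => by simp⟩
        mul_mem' := by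
          rintro g h ⟨hg, hg'⟩ ⟨hh, hh'⟩
          refine ⟨mul_mem hg hh, fun d hd => ?_⟩
          have e : g * h * d * (g * h)⁻¹ * d⁻¹ =
              (g * (h * d * h⁻¹ * d⁻¹) * g⁻¹) * (g * d * g⁻¹ * d⁻¹) := by group
          rw [e]; exact ZD.mul_mem (hZN g hg _ (hh' d hd)) (hg' d hd)
        inv_mem' := by
          rintro g ⟨hg, hg'⟩
          refine ⟨inv_mem hg, fun d hd => ?_⟩
          have h1 := hg' _ (hconjD _ (inv_mem hg) d hd)
          have e : g⁻¹ * d * g⁻¹⁻¹ * d⁻¹ = (g * (g⁻¹ * d * g⁻¹⁻¹) * g⁻¹ * (g⁻¹ * d * g⁻¹⁻¹)⁻¹)⁻¹ := by group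
          rw [e]; exact ZD.inv_mem h1 }
    have hmemP : ∀ g, g ∈ P ↔ g ∈ normalizer (D : Set G) ∧ ∀ d ∈ D, g * d * g⁻¹ * d⁻¹ ∈ ZD :=
      fun g => Iff.rfl
    refine fun d hd => ((hmemP y).1 (hyP P ?_ ?_ ?_)).2 d hd
    · exact (hmemP t).2 ⟨hND t ht, fun d hd => by rw [← commutatorElement_def]; exact hzc t ht d (hDS hd)⟩
    · refine sup_le (fun g hg => (hmemP g).2 ⟨Subgroup.le_normalizer hg, fun d hd => ?_⟩)
        (fun g hg => (hmemP g).2 ⟨Subgroup.centralizer_le_normalizer _ hg, fun d hd => ?_⟩)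
      · rw [← commutatorElement_def]; exact hzc g (hDS hg) d (hDS hd)
      · rw [← Subgroup.mem_centralizer_iff.1 hg d hd, mul_inv_cancel_right, mul_inv_cancel]; exact one_mem _
    · refine Coprime.mem_normalizer_of_forall fun g hg => (hmemP _).2 ?_
      obtain ⟨hgN, hg'⟩ := (hmemP g).1 hg
      refine ⟨mul_mem (mul_mem hyN hgN) (inv_mem hyN), fun d hd => ?_⟩
      have h1 := hg' _ (hconjD _ (inv_mem hyN) d hd)
      have e : y * g * y⁻¹ * d * (y * g * y⁻¹)⁻¹ * d⁻¹ =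
          y * (g * (y⁻¹ * d * y⁻¹⁻¹) * g⁻¹ * (y⁻¹ * d * y⁻¹⁻¹)⁻¹) * y⁻¹ := by group
      rw [e]; exact hZN y hyN _ h1
  -- a commutator fixed by `y` is trivial
  have hfix : ∀ d ∈ D, y * (y * d * y⁻¹ * d⁻¹) = (y * d * y⁻¹ * d⁻¹) * y → y * d * y⁻¹ * d⁻¹ = 1 := by
    intro d hd hw
    set w := y * d * y⁻¹ * d⁻¹ with hwdef
    have hyd : y * d * y⁻¹ = w * d := by rw [hwdef, inv_mul_cancel_right]
    clear_value w
    have hpow : ∀ n : ℕ, y ^ n * d * (y ^ n)⁻¹ = w ^ n * d := fun n => by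
      induction n with
      | zero => simp
      | succ n ih =>
        have hwy : y * w ^ n * y⁻¹ = w ^ n := by
          rw [((show Commute y w from hw).pow_right n).eq, mul_inv_cancel_right]
        calc y ^ (n + 1) * d * (y ^ (n + 1))⁻¹ = y * (y ^ n * d * (y ^ n)⁻¹) * y⁻¹ := by
              rw [pow_succ']; group
          _ = (y * w ^ n * y⁻¹) * (y * d * y⁻¹) := by rw [ih]; group
          _ = w ^ (n + 1) * d := by rw [hwy, hyd, pow_succ, ← mul_assoc]
    have h1 := hpow (orderOf y)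
    rw [pow_orderOf_eq_one, one_mul, inv_one, mul_one, right_eq_mul] at h1
    obtain ⟨k, hk⟩ := hS2 ⟨w, hDS (hwdef ▸ (hf d hd).1)⟩
    exact orderOf_eq_one_iff.1 (Nat.eq_one_of_dvd_coprimes (hyco.pow_right k)
      (orderOf_dvd_of_pow_eq_one h1) (orderOf_dvd_of_pow_eq_one (congrArg Subtype.val hk)))
  have hfmul : ∀ d ∈ D, ∀ d' ∈ D, y * (d * d') * y⁻¹ * (d * d')⁻¹ =
      (y * d * y⁻¹ * d⁻¹) * (y * d' * y⁻¹ * d'⁻¹) := by
    intro d hd d' hd'
    have h1 := hcomm _ (hf d' hd') d hd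
    calc y * (d * d') * y⁻¹ * (d * d')⁻¹ = (y * d * y⁻¹ * d⁻¹) * (d * (y * d' * y⁻¹ * d'⁻¹) * d⁻¹) := by group
      _ = _ := by rw [← h1, mul_inv_cancel_right]
  -- `y` fixes the squares of `Z(D)`
  have hsq : ∀ z ∈ ZD, y * (z * z) = (z * z) * y := by
    set T : Set G := {x | ∃ z ∈ ZD, x = z * z} with hT
    set P := normalizer (D : Set G) ⊓ centralizer T with hP
    have hyP' : y ∈ P := by
      refine hyP P ⟨hND t ht, ?_⟩ ?_ ?_
      · refine Subgroup.mem_centralizer_iff.2 ?_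
        rintro _ ⟨z, hz', rfl⟩
        have hc : t * z * t⁻¹ * z⁻¹ ∈ ZD := by
          rw [← commutatorElement_def]; exact hzc t ht z (hDS hz'.1)
        have hct : t * (t * z * t⁻¹ * z⁻¹) = (t * z * t⁻¹ * z⁻¹) * t := by
          rw [← commutatorElement_def]; exact (hcl t ht z (hDS hz'.1) t ht).symm
        set c := t * z * t⁻¹ * z⁻¹ with hcdef
        have h1 : t * z * t⁻¹ = c * z := by rw [hcdef, inv_mul_cancel_right]
        have h2 : t * c * t⁻¹ = c := by rw [hct, mul_inv_cancel_right]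
        clear_value c
        have h3 : z = c * c * z := by
          calc z = (t * t) * z * (t * t)⁻¹ := (htriv _ (mem_sup_left htt) z hz').symm
            _ = t * (t * z * t⁻¹) * t⁻¹ := by group
            _ = t * (c * z) * t⁻¹ := by rw [h1]
            _ = (t * c * t⁻¹) * (t * z * t⁻¹) := by group
            _ = c * c * z := by rw [h2, h1, mul_assoc]
        have h4 : c * c = 1 := mul_eq_right.1 h3.symm
        have h5 : t * (z * z) * t⁻¹ = z * z := by
          calc t * (z * z) * t⁻¹ = (t * z * t⁻¹) * (t * z * t⁻¹) := by group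
            _ = c * (z * c) * z := by rw [h1]; group
            _ = c * c * (z * z) := by rw [← hcomm c hc z hz'.1]; group
            _ = z * z := by rw [h4, one_mul]
        exact (mul_inv_eq_iff_eq_mul.1 h5).symm
      · refine fun x hx => ⟨(sup_le Subgroup.le_normalizer (Subgroup.centralizer_le_normalizer _) :
          D ⊔ C ≤ _) hx, Subgroup.mem_centralizer_iff.2 ?_⟩
        rintro _ ⟨z, hz', rfl⟩
        exact (mul_inv_eq_iff_eq_mul.1 (htriv x hx _ (ZD.mul_mem hz' hz'))).symm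
      · refine Coprime.mem_normalizer_of_forall fun g hg => ⟨(normalizer (D : Set G)).mul_mem ((normalizer (D : Set G)).mul_mem hyN hg.1) ((normalizer (D : Set G)).inv_mem hyN),
          Subgroup.mem_centralizer_iff.2 ?_⟩
        rintro _ ⟨z, hz', rfl⟩
        have h1 := Subgroup.mem_centralizer_iff.1 hg.2 _
          ⟨y⁻¹ * z * y, by simpa using hZN _ (inv_mem hyN) z hz', rfl⟩
        calc z * z * (y * g * y⁻¹) = y * ((y⁻¹ * z * y) * (y⁻¹ * z * y) * g) * y⁻¹ := by group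
          _ = y * (g * ((y⁻¹ * z * y) * (y⁻¹ * z * y))) * y⁻¹ := by rw [h1]
          _ = y * g * y⁻¹ * (z * z) := by group
    exact fun z hz' => (Subgroup.mem_centralizer_iff.1 hyP'.2 _ ⟨z, hz', rfl⟩).symm
  let U : Subgroup G :=
    { carrier := {w | ∃ d ∈ D, w = y * d * y⁻¹ * d⁻¹}
      one_mem' := ⟨1, one_mem _, by simp⟩
      mul_mem' := by
        rintro _ _ ⟨d, hd, rfl⟩ ⟨d', hd', rfl⟩
        exact ⟨d * d', mul_mem hd hd', (hfmul d hd d' hd').symm⟩
      inv_mem' := by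
        rintro _ ⟨d, hd, rfl⟩
        exact ⟨d⁻¹, inv_mem hd, inv_eq_of_mul_eq_one_right (by
          rw [← hfmul d hd _ (inv_mem hd), mul_inv_cancel]; simp)⟩ }
  have hUmem : ∀ w, w ∈ U ↔ ∃ d ∈ D, w = y * d * y⁻¹ * d⁻¹ := fun w => Iff.rfl
  have hUZ : ∀ u ∈ U, u ∈ ZD := fun u hu => by
    obtain ⟨d, hd, rfl⟩ := (hUmem u).1 hu; exact hf d hd
  have hUfix : ∀ u ∈ U, y * u = u * y → u = 1 := fun u hu h => by
    obtain ⟨d, hd, rfl⟩ := (hUmem u).1 hu; exact hfix d hd h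
  have hUsq : ∀ u ∈ U, u * u = 1 := by
    intro u hu
    obtain ⟨d, hd, rfl⟩ := (hUmem u).1 hu
    rw [← hfmul d hd d hd]
    exact hfix _ (mul_mem hd hd) (by rw [hfmul d hd d hd]; exact hsq _ (hf d hd))
  -- commutation with `y` is surjective on `U`
  have hsurj : ∀ u ∈ U, ∃ z ∈ U, u = y * z * y⁻¹ * z⁻¹ := by
    let f : U → U := fun z => ⟨y * z * y⁻¹ * (z : G)⁻¹, (hUmem _).2 ⟨z, (hUZ z z.2).1, rfl⟩⟩
    have hinj : Function.Injective f := fun a b hab => by
      have h1 : y * (a : G) * y⁻¹ * (a : G)⁻¹ = y * b * y⁻¹ * (b : G)⁻¹ := congrArg Subtype.val hab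
      have h2 := hfmul _ (hUZ _ (mul_mem a.2 (inv_mem b.2))).1 _ (hUZ _ b.2).1
      rw [inv_mul_cancel_right, h1, right_eq_mul, mul_inv_eq_one] at h2
      exact Subtype.ext (mul_inv_eq_one.1 (hUfix _ (mul_mem a.2 (inv_mem b.2))
        (mul_inv_eq_iff_eq_mul.1 h2)))
    intro u hu
    obtain ⟨z, hz'⟩ := Finite.surjective_of_injective hinj ⟨u, hu⟩
    exact ⟨z, z.2, (congrArg Subtype.val hz').symm⟩
  have htU : ∀ u ∈ U, t * u * t⁻¹ ∈ U := by
    intro u hu
    obtain ⟨z, hzU, rfl⟩ := hsurj u hu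
    set z' := t * z * t⁻¹ with hz'def
    have hz' : z' ∈ ZD := hZN t (hND t ht) z (hUZ z hzU)
    have e1 : t * (y * z * y⁻¹ * z⁻¹) * t⁻¹ = (t * y * t⁻¹ * y) * (y⁻¹ * z' * y) * (t * y * t⁻¹ * y)⁻¹ * z'⁻¹ := by
      rw [hz'def]; group
    have hz'' : y⁻¹ * z' * y ∈ ZD := by simpa using hZN _ (inv_mem hyN) z' hz'
    rw [e1, htriv _ hty _ hz'', hUmem]
    refine ⟨(y⁻¹ * z' * y)⁻¹, inv_mem hz''.1, ?_⟩
    rw [hcomm _ hz'' _ (inv_mem hz'.1)]
    group
  have hUne : ∃ u ∈ U, t * u ≠ u * t := by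
    by_contra hcon
    push Not at hcon
    refine hyC (Subgroup.mem_centralizer_iff.2 fun d hd => ?_)
    suffices h : y * d * y⁻¹ * d⁻¹ = 1 by
      exact (mul_inv_eq_iff_eq_mul.1 (mul_inv_eq_one.1 h)).symm
    have hu : y * d * y⁻¹ * d⁻¹ ∈ U := (hUmem _).2 ⟨d, hd, rfl⟩
    generalize y * d * y⁻¹ * d⁻¹ = u at hu ⊢
    refine hUfix u hu ?_
    have hyu : y * u * y⁻¹ ∈ U := by
      have := U.mul_mem ((hUmem _).2 ⟨u, (hUZ u hu).1, rfl⟩) hu
      rwa [inv_mul_cancel_right] at this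
    have h1 : t * (y * u * y⁻¹) * t⁻¹ = y * u * y⁻¹ := by rw [hcon _ hyu, mul_inv_cancel_right]
    have h2 : t * u * t⁻¹ = u := by rw [hcon _ hu, mul_inv_cancel_right]
    have e : t * (y * u * y⁻¹) * t⁻¹ =
        (t * y * t⁻¹ * y) * (y⁻¹ * (t * u * t⁻¹) * y) * (t * y * t⁻¹ * y)⁻¹ := by group
    rw [h1, h2, htriv _ hty _ (by simpa using hZN _ (inv_mem hyN) u (hUZ u hu))] at e
    have h3 : y ^ 2 ∈ centralizer ({u} : Set G) := Subgroup.mem_centralizer_singleton_iff.2 (by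
      calc y ^ 2 * u = y * (y * u * y⁻¹) * y := by rw [pow_two]; group
        _ = y * (y⁻¹ * u * y) * y := by rw [e]
        _ = u * y ^ 2 := by rw [pow_two]; group)
    have h4 : y ∈ centralizer ({u} : Set G) := Transfer.mem_of_pow_mem_of_coprime hyco
      (by rw [pow_orderOf_eq_one]; exact one_mem _) h3
    exact Subgroup.mem_centralizer_singleton_iff.1 h4
  -- `|S : D| = 2`
  have htwo : ∀ s ∈ S, s ∉ D → s * t ∈ D := by
    intro s hs hsD
    rcases hall s hs with h | h | ⟨w, hw, hwt⟩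
    · exact absurd h hsD
    · exact h
    exfalso
    obtain ⟨u, hu, hne⟩ := hUne
    apply hne
    have huD := hUZ u hu
    have hww : Commute (w * w) u := by
      set c := w * u * w⁻¹ * u⁻¹ with hcdef
      have hcS : c * w = w * c := by
        rw [hcdef, ← commutatorElement_def]; exact hcl w hw u (hDS huD.1) w hw
      have hc : c ∈ ZD := by rw [hcdef, ← commutatorElement_def]; exact hzc w hw u (hDS huD.1)
      have h1 : w * u * w⁻¹ = c * u := by rw [hcdef, inv_mul_cancel_right]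
      have h3 : (w * u * w⁻¹) * (w * u * w⁻¹) = 1 := by
        rw [show (w * u * w⁻¹) * (w * u * w⁻¹) = w * (u * u) * w⁻¹ by group, hUsq u hu]; group
      have h4 : c * c = 1 := by
        rw [h1, show c * u * (c * u) = c * (u * c) * u by group, ← hcomm c hc u huD.1] at h3
        rw [show c * (c * u) * u = c * c * (u * u) by group, hUsq u hu, mul_one] at h3
        exact h3
      show w * w * u = u * (w * w)
      calc w * w * u = w * (w * u * w⁻¹) * w := by group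
        _ = (w * c) * u * w := by rw [h1]; group
        _ = c * (w * u * w⁻¹) * w * w := by rw [← hcS]; group
        _ = c * c * u * (w * w) := by rw [h1]; group
        _ = u * (w * w) := by rw [h4, one_mul]
    have h5 : Commute (w * w * t) u := (hcomm u huD _ hwt).symm
    have h6 := hww.inv_left.mul_left h5
    rw [inv_mul_cancel_left] at h6
    exact h6.eq
  have hUc : ∀ u ∈ U, ∀ d ∈ D, u * d = d * u := fun u hu d hd => hcomm u (hUZ u hu) d hd
  have hfixD : ∀ d ∈ D, y * d * y⁻¹ = (y * d * y⁻¹ * d⁻¹) * d := fun d _ => (inv_mul_cancel_right _ d).symm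
  refine ⟨U, hDS, fun u hu => (hUZ u hu).1, hz, ?_, hUc, hUsq, ?_, ?_, ?_, ?_, ?_⟩
  · intro a ha b hb haD hbD
    rw [show a * b = (a * t) * (t⁻¹ * (b * t) * t⁻¹⁻¹) * (t * t)⁻¹ by group]
    exact mul_mem (mul_mem (htwo a ha haD) (hconjD _ (inv_mem (hND t ht)) _ (htwo b hb hbD))) (inv_mem htt)
  · intro u hu s hs
    rw [commutatorElement_def]
    by_cases hsD : s ∈ D
    · rw [hUc u hu s hsD, mul_inv_cancel_right, mul_inv_cancel]; exact one_mem _
    · set d := s * t with hd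
      have hdD : d ∈ D := htwo s hs hsD
      have h2 : (t * t) * u * (t * t)⁻¹ = u := by rw [← hUc u hu _ htt, mul_inv_cancel_right]
      have h3 : t⁻¹ * u⁻¹ * t = t * u⁻¹ * t⁻¹ := by
        calc t⁻¹ * u⁻¹ * t = t⁻¹ * ((t * t) * u * (t * t)⁻¹)⁻¹ * t := by rw [h2]
          _ = t * u⁻¹ * t⁻¹ := by group
      have e : u * s * u⁻¹ * s⁻¹ = u * (d * (t⁻¹ * u⁻¹ * t) * d⁻¹) := by rw [hd]; group
      have h4 : t * u⁻¹ * t⁻¹ ∈ U := htU _ (inv_mem hu)
      rw [e, h3, ← hUc _ h4 d hdD, mul_inv_cancel_right]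
      exact U.mul_mem hu h4
  · obtain ⟨u, hu, hne⟩ := hUne
    exact ⟨u, hu, t, ht, fun h => hne h.symm⟩
  · intro d hd d' hd' hmem
    refine hUfix _ hmem ?_
    set w := y * d * y⁻¹ * d⁻¹ with hw
    set w' := y * d' * y⁻¹ * d'⁻¹ with hw'
    refine mul_inv_eq_iff_eq_mul.1 ?_
    have hwZ := hf d hd
    have hwZ' := hf d' hd'
    rw [← hw] at hwZ
    rw [← hw'] at hwZ'
    have e : y * ⁅d, d'⁆ * y⁻¹ = ⁅w * d, w' * d'⁆ := by
      rw [hw, hw', ← hfixD d hd, ← hfixD d' hd']; simp only [commutatorElement_def]; group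
    have c1 : Commute w d := hcomm w hwZ d hd
    have c2 : Commute w d' := hcomm w hwZ d' hd'
    have c3 : Commute w' d := hcomm w' hwZ' d hd
    have c4 : Commute w' d' := hcomm w' hwZ' d' hd'
    have c5 : Commute w w' := hcomm w hwZ w' hwZ'.1
    rw [e, commutatorElement_def, commutatorElement_def]
    calc w * d * (w' * d') * (w * d)⁻¹ * (w' * d')⁻¹
        = w * (d * w') * d' * d⁻¹ * w⁻¹ * d'⁻¹ * w'⁻¹ := by group
      _ = w * w' * (d * d' * d⁻¹) * (w⁻¹ * d'⁻¹) * w'⁻¹ := by rw [← c3.eq]; group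
      _ = w * w' * (d * d' * d⁻¹ * d'⁻¹) * (w * w')⁻¹ := by
        rw [c2.inv_inv.eq, c5.eq]; group
      _ = d * d' * d⁻¹ * d'⁻¹ := by
        have c6 : Commute (w * w') (d * d' * d⁻¹ * d'⁻¹) :=
          ((((c1.mul_left c3).mul_right (c2.mul_left c4))).mul_right (c1.mul_left c3).inv_right).mul_right
            (c2.mul_left c4).inv_right
        rw [c6.eq, mul_inv_cancel_right]
  · intro d hd hmem
    refine hUfix _ hmem ?_
    set w := y * d * y⁻¹ * d⁻¹ with hw
    refine mul_inv_eq_iff_eq_mul.1 ?_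
    have hwU : w ∈ U := (hUmem _).2 ⟨d, hd, rfl⟩
    have e : y * (d * d) * y⁻¹ = (w * d) * (w * d) := by rw [hw, ← hfixD d hd]; group
    rw [e, show w * d * (w * d) = w * (d * w) * d by group, ← hUc w hwU d hd,
      show w * (w * d) * d = w * w * (d * d) by group, hUsq w hwU, one_mul]
  · intro X hUX hXD
    refine Coprime.mem_normalizer_of_forall fun x hx => ?_
    rw [hfixD x (hXD hx)]
    exact X.mul_mem (hUX ((hUmem _).2 ⟨x, hXD hx, rfl⟩)) hx

/-- Without a normal 2-complement, a class two Sylow 2-subgroup has an essential subgroup. -/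
theorem exists_ess (S : Sylow 2 G)
    (hcl : ∀ a ∈ (S : Subgroup G), ∀ b ∈ (S : Subgroup G), ∀ c ∈ (S : Subgroup G), ⁅a, b⁆ * c = c * ⁅a, b⁆)
    (hNS : ∀ y ∈ normalizer ((S : Subgroup G) : Set G), (orderOf y).Coprime 2 →
      y ∈ centralizer ((S : Subgroup G) : Set G))
    (hnot : ¬ Cfsg.HasNormalPComplement 2 G) :
    ∃ (D U : Subgroup G) (y : G), Ess (S : Subgroup G) D U y ∧ (orderOf y).Coprime 2 ∧
      y ∉ centralizer (D : Set G) := by
  let Good : Set (Subgroup G) := {R | Transfer.IsCentricIn (S : Subgroup G) R ∧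
    ∃ y ∈ normalizer (R : Set G), (orderOf y).Coprime 2 ∧ y ∉ centralizer (R : Set G)}
  have hne : Good.Nonempty := by
    by_contra h
    refine hnot (Transfer.hasNormalPComplement_of_centric S fun R hR y hy hco => ?_)
    by_contra hc
    exact h ⟨R, hR, y, hy, hco, hc⟩
  obtain ⟨D, ⟨⟨hDS, hDc⟩, y₀, hy₀, hy₀co, hy₀C⟩, hmax⟩ := (Set.toFinite Good).exists_maximal hne
  have hz : ∀ z ∈ (S : Subgroup G), (∀ s ∈ (S : Subgroup G), z * s = s * z) → z ∈ D := fun z hzS hc =>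
    hDc ⟨hzS, Subgroup.mem_centralizer_iff.2 fun d hd => (hc d (hDS hd)).symm⟩
  have hnorm : (S : Subgroup G) ≤ normalizer (D : Set G) := fun s hs =>
    Coprime.mem_normalizer_of_forall fun d hd => by
      have hab : ⁅s, d⁆ ∈ (S : Subgroup G) := by
        rw [commutatorElement_def]
        exact mul_mem (mul_mem (mul_mem hs (hDS hd)) (inv_mem hs)) (inv_mem (hDS hd))
      have := D.mul_mem (hz _ hab fun c hc => hcl s hs d (hDS hd) c hc) hd
      rwa [commutatorElement_def, inv_mul_cancel_right] at this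
  have hDne : D ≠ S := fun e => by
    subst e
    exact hy₀C (hNS y₀ hy₀ hy₀co)
  set H := normalizer (D : Set G) with hH
  let S' : Sylow 2 H := S.subtype hnorm
  have hS' : (S' : Subgroup H) = (S : Subgroup G).subgroupOf H := rfl
  have hDH : D ≤ H := Subgroup.le_normalizer
  set D' := D.subgroupOf H with hD'
  set C' := (centralizer (D : Set G)).subgroupOf H with hC'
  have : D'.Normal := normal_subgroupOf_of_le_normalizer le_rfl
  have : C'.Normal := Subgroup.normal_subgroupOf_centralizer_normalizer _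
  obtain ⟨t, ht, -, htt, y, hyco, hyC, hty, hall⟩ := exists_inverted S' D' C' (fun x hx => hDS hx)
    (fun a ha b hb => by
      have hab : ⁅(a : G), (b : G)⁆ ∈ (S : Subgroup G) := by
        rw [commutatorElement_def]; exact mul_mem (mul_mem (mul_mem ha hb) (inv_mem ha)) (inv_mem hb)
      exact hz _ hab fun c hc => hcl _ ha _ hb c hc)
    (fun x hx => hDc hx)
    (fun e => hDne (le_antisymm hDS fun s hs => by
      have : (⟨s, hnorm hs⟩ : H) ∈ D' := e.symm ▸ (hs : (⟨s, hnorm hs⟩ : H) ∈ (S' : Subgroup H))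
      exact this))
    ⟨⟨y₀, hy₀⟩, by rwa [Subgroup.orderOf_mk], hy₀C⟩
    (fun X hDX hXS m hm hco => by
      set X₀ := X.map H.subtype with hX₀
      have hle : D ≤ X₀ := fun d hd => ⟨⟨d, hDH hd⟩, hDX.le (show (⟨d, hDH hd⟩ : H) ∈ D' from hd), rfl⟩
      have hX₀S : X₀ ≤ S := by rintro _ ⟨x, hx, rfl⟩; exact hXS hx
      have hXc : Transfer.IsCentricIn (S : Subgroup G) X₀ := ⟨hX₀S,
        ((inf_le_inf_left _ (Subgroup.centralizer_le (SetLike.coe_subset_coe.2 hle))).trans hDc).trans hle⟩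
      show (m : G) ∈ centralizer (D : Set G)
      by_contra hc
      have hgood : X₀ ∈ Good := ⟨hXc, m, Subgroup.le_normalizer_map H.subtype ⟨m, hm, rfl⟩,
        by rwa [Subgroup.orderOf_coe],
        fun h => hc (Subgroup.centralizer_le (SetLike.coe_subset_coe.2 hle) h)⟩
      obtain ⟨x, hx, hxD⟩ := SetLike.exists_of_lt hDX
      exact hxD (hmax hgood hle ⟨x, hx, rfl⟩))
  obtain ⟨U, hU⟩ := ess_of_inverted S.2 hDS hz hcl (t := (t : G)) (y := (y : G)) ht htt y.2
    (by rwa [Subgroup.orderOf_coe]) hyC (by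
      obtain ⟨d, hd, c, hc, he⟩ := Subgroup.mem_sup_of_normal_right.1 hty
      rw [show (t : G) * y * (t : G)⁻¹ * y = ((t * y * t⁻¹ * y : H) : G) from rfl, ← he]
      exact mul_mem (mem_sup_left hd) (mem_sup_right hc))
    (fun s hs => by
      rcases hall ⟨s, hnorm hs⟩ hs with h | h | ⟨w, hw, hwt⟩
      · exact Or.inl h
      · exact Or.inr (Or.inl h)
      · exact Or.inr (Or.inr ⟨w, hw, hwt⟩))
  exact ⟨D, U, y, hU, by rwa [Subgroup.orderOf_coe], hyC⟩

end Cfsg.Agent.CoprimeNilMax
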