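import Cfsg.Agent.Lib.CoprimeNilMax.Essential
import Cfsg.Agent.Lib.PLocal.Complements
import Cfsg.Agent.Lib.Transfer.NilpotentHall
import Cfsg.Agent.Lib.NilGroup.Basic

/-!
# Local analysis at a maximal invariant nilpotent subgroup (helper25)

`Setup`: a core-free maximal invariant nilpotent subgroup; every prime of `M` gives a normal
complement in `G` (`complement_odd`, `complement_two`).
-/

set_option autoImplicit false
set_option linter.unusedSectionVars false

namespace Cfsg.Agent.CoprimeNilMax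

open Subgroup
open scoped Pointwise commutatorElement

universe u v

variable {A : Type v} [Group A] {G : Type u} [Group G] [Finite G]

/-- Invariance under the acting group. -/
def Inv (φ : A →* MulAut G) (H : Subgroup G) : Prop := ∀ a : A, H.map (φ a).toMonoidHom = H

/-- A `p`-element. -/
def IsPElt (p : ℕ) (x : G) : Prop := ∃ k, x ^ p ^ k = 1

/-- A core-free maximal invariant nilpotent subgroup whose 2-elements have class two. -/
structure Setup (φ : A →* MulAut G) (M : Subgroup G) : Prop where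
  ne_top : M ≠ ⊤
  inv : Inv φ M
  max : ∀ H : Subgroup G, M ≤ H → H ≠ ⊤ → Inv φ H → H = M
  nil : Group.IsNilpotent M
  core : ∀ N : Subgroup G, N.Normal → Inv φ N → N ≤ M → N = ⊥
  cl : ∀ a ∈ M, ∀ b ∈ M, ∀ c ∈ M, IsPElt 2 a → IsPElt 2 b → IsPElt 2 c → ⁅a, b⁆ * c = c * ⁅a, b⁆

theorem inv_of_le {φ : A →* MulAut G} {H : Subgroup G}
    (h : ∀ a : A, H.map (φ a).toMonoidHom ≤ H) : Inv φ H := fun a =>
  Subgroup.eq_of_le_of_card_ge (h a) (Subgroup.card_map_of_injective (φ a).injective).ge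

theorem Inv.normalizer {φ : A →* MulAut G} {H : Subgroup G} (h : Inv φ H) :
    Inv φ (normalizer (H : Set G)) := fun a => by
  rw [Subgroup.map_equiv_normalizer_eq H (φ a), h a]

variable {φ : A →* MulAut G} {M : Subgroup G} (h : Setup φ M)
include h

theorem Setup.normalizer_eq {X : Subgroup G} (hX : Inv φ X) (hne : X ≠ ⊥) (hXM : X ≤ M)
    (hMX : M ≤ normalizer (X : Set G)) : normalizer (X : Set G) = M := by
  refine h.max _ hMX (fun e => hne ?_) hX.normalizer
  exact h.core X (Subgroup.normalizer_eq_top_iff.1 e) hX hXM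

/-- The Sylow subgroup of `M` is an invariant Sylow subgroup of `G`. -/
theorem Setup.exists_sylow {p : ℕ} [Fact p.Prime] (hp : p ∣ Nat.card M) :
    ∃ U : Sylow p G, (U : Subgroup G) ≤ M ∧ M ≤ normalizer ((U : Subgroup G) : Set G) ∧
      (U : Subgroup G) ≠ ⊥ ∧ Inv φ (U : Subgroup G) ∧ ∀ x ∈ M, IsPElt p x → x ∈ (U : Subgroup G) := by
  have := h.nil
  obtain ⟨R⟩ := (inferInstance : Nonempty (Sylow p M))
  have hRn : (R : Subgroup M).Normal :=
    Sylow.normal_of_normalizerCondition Group.normalizerCondition_of_isNilpotent R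
  set P := (R : Subgroup M).map M.subtype with hP
  have hPM : P ≤ M := map_subtype_le _
  have hP1 : P ≠ ⊥ := fun e => by
    rw [hP, Subgroup.map_eq_bot_iff_of_injective _ M.subtype_injective] at e
    exact R.ne_bot_of_dvd_card hp e
  have hmem : ∀ x ∈ M, IsPElt p x → x ∈ P := by
    rintro x hx ⟨k, hk⟩
    have hz : IsPGroup p (zpowers (⟨x, hx⟩ : M)) := by
      rintro ⟨z, j, rfl⟩
      refine ⟨k, Subtype.ext ?_⟩
      show ((⟨x, hx⟩ : M) ^ j) ^ p ^ k = 1
      rw [← zpow_natCast, ← zpow_mul, mul_comm, zpow_mul, zpow_natCast,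
        show (⟨x, hx⟩ : M) ^ p ^ k = 1 from Subtype.ext hk, one_zpow]
    have hsup := R.3 (R.2.to_sup_of_normal_left hz) le_sup_left
    exact ⟨⟨x, hx⟩, hsup.le (mem_sup_right (mem_zpowers _)), rfl⟩
  have hMN : M ≤ normalizer (P : Set G) := by
    have h1 := Subgroup.le_normalizer_map M.subtype (H := (R : Subgroup M))
    rw [Subgroup.normalizer_eq_top, ← MonoidHom.range_eq_map, Subgroup.range_subtype] at h1
    exact h1
  have hPinv : Inv φ P := inv_of_le fun a => by
    rintro _ ⟨x, hx, rfl⟩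
    refine hmem _ ((h.inv a).le ⟨x, hPM hx, rfl⟩) ?_
    obtain ⟨r, hr, rfl⟩ := hx
    obtain ⟨k, hk⟩ := R.2 ⟨r, hr⟩
    refine ⟨k, ?_⟩
    have hk' : (r : G) ^ p ^ k = 1 := congrArg (fun z : (R : Subgroup M) => ((z : M) : G)) hk
    show (φ a (r : G)) ^ p ^ k = 1
    rw [← map_pow, hk', map_one]
  have hNP := h.normalizer_eq hPinv hP1 hPM hMN
  obtain ⟨U, hU⟩ := (R.2.map M.subtype).exists_le_sylow
  have hUP : (U : Subgroup G) = P := by
    by_contra hne
    have := U.2.isNilpotent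
    have hlt : P.subgroupOf (U : Subgroup G) < ⊤ := by
      rw [lt_top_iff_ne_top, Ne, Subgroup.subgroupOf_eq_top]
      exact fun h => hne (le_antisymm h hU)
    obtain ⟨x, hx, hxP⟩ := SetLike.exists_of_lt (Group.normalizerCondition_of_isNilpotent _ hlt)
    have hxM : (x : G) ∈ M := by
      rw [← hNP]
      refine Coprime.mem_normalizer_of_forall fun a ha => ?_
      exact (Subgroup.mem_normalizer_iff.1 hx ⟨a, hU ha⟩).1 ha
    obtain ⟨k, hk⟩ := U.2 x
    exact hxP (hmem _ hxM ⟨k, congrArg Subtype.val hk⟩)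
  exact ⟨U, hUP ▸ hPM, hUP ▸ hMN, hUP ▸ hP1, hUP ▸ hPinv, fun x hx hp' => hUP ▸ hmem x hx hp'⟩

/-- The odd primes of `M`. -/
theorem Setup.complement_odd {p : ℕ} [Fact p.Prime] (hp2 : p ≠ 2) (hp : p ∣ Nat.card M) :
    Cfsg.HasNormalPComplement p G := by
  obtain ⟨U, hUM, hMU, hU1, hUinv, -⟩ := h.exists_sylow hp
  refine PLocal.glauberman_complement hp2 U ?_
  obtain ⟨z, hz, hz1, hzp⟩ := PLocal.exists_central_of_order_p U.isPGroup' hU1
  set Z := Cfsg.centerThompsonOf p (U : Subgroup G) with hZ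
  have hmap : ∀ e : G ≃* G, (U : Subgroup G).map e.toMonoidHom = U → Z.map e.toMonoidHom = Z := fun e he => by
    rw [hZ, PLocal.map_centerThompsonOf _ e.injective.injOn, he]
  have hZU : Z ≤ U := inf_le_left.trans (PLocal.thompsonSubgroupOf_le _)
  have hN := h.normalizer_eq (X := Z) (fun a => hmap _ (hUinv a))
    (fun e => hz1 (Subgroup.mem_bot.1 (e.le (PLocal.central_le_centerThompsonOf hz hzp)))) (hZU.trans hUM)
    fun m hm => Subgroup.mem_normalizer_iff_map_conj_eq.2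
      (hmap _ (Subgroup.mem_normalizer_iff_map_conj_eq.1 (hMU hm)))
  rw [hN]
  have := h.nil
  exact Transfer.hasNormalPComplement_of_isNilpotent p

/-- The prime two. -/
theorem Setup.complement_two (hodd : ∀ a : A, Odd (orderOf (φ a))) (hp : 2 ∣ Nat.card M) :
    Cfsg.HasNormalPComplement 2 G := by
  by_contra hnot
  obtain ⟨S, hSM, hMS, hS1, hSinv, hSmem⟩ := h.exists_sylow hp
  have hpe : ∀ x ∈ (S : Subgroup G), IsPElt 2 x := fun x hx => by
    obtain ⟨k, hk⟩ := S.2 ⟨x, hx⟩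
    exact ⟨k, congrArg Subtype.val hk⟩
  have := h.nil
  -- the elements of odd order of `M` centralise `S`
  have hcent : ∀ x ∈ M, (orderOf x).Coprime 2 → x ∈ centralizer ((S : Subgroup G) : Set G) := by
    intro x hx hco
    refine Subgroup.mem_centralizer_iff.2 fun s hs => ?_
    obtain ⟨k, hk⟩ := hpe s hs
    have h1 := NilGroup.commute_of_coprime h.nil (x := (⟨s, hSM hs⟩ : M)) (y := ⟨x, hx⟩) (by
      rw [Subgroup.orderOf_mk, Subgroup.orderOf_mk]
      exact ((hco.pow_right k).coprime_dvd_right (orderOf_dvd_of_pow_eq_one hk)).symm)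
    exact congrArg Subtype.val h1.eq
  have hNS := h.normalizer_eq hSinv hS1 hSM hMS
  obtain ⟨D, U, y, hE, hyco, hyC⟩ := exists_ess S
    (fun a ha b hb c hc => h.cl a (hSM ha) b (hSM hb) c (hSM hc) (hpe a ha) (hpe b hb) (hpe c hc))
    (fun y hy hco => hcent y (hNS ▸ hy) hco) hnot
  have hyM : y ∉ M := fun hy =>
    hyC (Subgroup.centralizer_le (SetLike.coe_subset_coe.2 hE.le) (hcent y hy hyco))
  set Q : Subgroup G := ⨅ a : A, D.map (φ a).toMonoidHom with hQ
  have hQD : Q ≤ D := (iInf_le _ (1 : A)).trans (le_of_eq (by rw [map_one]; exact Subgroup.map_id D))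
  have hUQ : U ≤ Q := le_iInf fun a => not_linked_orbit hE (φ a) (hSinv a) (hodd a)
  have hQinv : Inv φ Q := inv_of_le fun b => by
    rintro _ ⟨x, hx, rfl⟩
    refine Subgroup.mem_iInf.2 fun a => ?_
    obtain ⟨d, hd, hde⟩ := Subgroup.mem_iInf.1 hx (b⁻¹ * a)
    refine ⟨d, hd, ?_⟩
    show φ a d = φ b x
    rw [← hde]
    show φ a d = φ b (φ (b⁻¹ * a) d)
    rw [← MulAut.mul_apply, ← map_mul, mul_inv_cancel_left]
  have hDn : ∀ s ∈ (S : Subgroup G), ∀ d ∈ D, s * d * s⁻¹ * d⁻¹ ∈ D := by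
    intro s hs d hd
    have hdS := hE.le hd
    refine hE.zle _ (mul_mem (mul_mem (mul_mem hs hdS) (inv_mem hs)) (inv_mem hdS)) fun c hc => ?_
    have := h.cl s (hSM hs) d (hSM hdS) c (hSM hc) (hpe s hs) (hpe d hdS) (hpe c hc)
    rwa [commutatorElement_def] at this
  have hQn : ∀ s ∈ (S : Subgroup G), ∀ x ∈ Q, s * x * s⁻¹ ∈ Q := by
    intro s hs x hx
    refine Subgroup.mem_iInf.2 fun a => ?_
    obtain ⟨d, hd, rfl⟩ := Subgroup.mem_iInf.1 hx a
    obtain ⟨s', hs', rfl⟩ := ((hSinv a).symm ▸ hs : s ∈ (S : Subgroup G).map (φ a).toMonoidHom)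
    refine ⟨s' * d * s'⁻¹, ?_, by simp⟩
    have := D.mul_mem (hDn s' hs' d hd) hd
    rwa [inv_mul_cancel_right] at this
  have hQM : M ≤ normalizer (Q : Set G) := by
    intro m hm
    obtain ⟨a, b, rfl, ha, hb, ⟨k, hk⟩, hbco⟩ := Transfer.exists_pPart_mul (p := 2) m
    have haM : a ∈ M := (zpowers_le.2 hm) ha
    have hbM : b ∈ M := (zpowers_le.2 hm) hb
    refine mul_mem (Coprime.mem_normalizer_of_forall (hQn a (hSmem a haM ⟨k, ?_⟩))) ?_
    · rw [← hk, pow_orderOf_eq_one]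
    · exact Subgroup.centralizer_le_normalizer _ (Subgroup.centralizer_le
        (SetLike.coe_subset_coe.2 (hQD.trans hE.le)) (hcent b hbM hbco))
  have hne : Q ≠ ⊥ := fun e => hE.ne_bot (le_bot_iff.1 (e ▸ hUQ))
  exact hyM (h.normalizer_eq hQinv hne ((hQD.trans hE.le).trans hSM) hQM ▸ hE.ynorm Q hUQ hQD)

end Cfsg.Agent.CoprimeNilMax
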