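import Cfsg.Agent.EqLemmas

/-!
# Pairs of essential subgroups in a Sylow subgroup of class two (helper25)

`Ess S D U y`: `D` has index two in `S`, `U` is central elementary in `D` and is the commutator
with the element `y` of odd order. Two such subgroups are linked when `¬ U₁ ≤ D₂`; each has at
most one partner, so an odd orbit has no linked pair.
-/

set_option autoImplicit false

namespace Cfsg.Agent.CoprimeNilMax

open Subgroup
open scoped commutatorElement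

variable {G : Type*} [Group G]

/-- The data of an essential subgroup of a group of class two. -/
structure Ess (S D U : Subgroup G) (y : G) : Prop where
  le : D ≤ S
  Ule : U ≤ D
  zle : ∀ z ∈ S, (∀ s ∈ S, z * s = s * z) → z ∈ D
  two : ∀ a ∈ S, ∀ b ∈ S, a ∉ D → b ∉ D → a * b ∈ D
  cent : ∀ u ∈ U, ∀ d ∈ D, u * d = d * u
  sq : ∀ u ∈ U, u * u = 1
  comm : ∀ u ∈ U, ∀ s ∈ S, ⁅u, s⁆ ∈ U
  nc : ∃ u ∈ U, ∃ s ∈ S, u * s ≠ s * u
  commTriv : ∀ d ∈ D, ∀ d' ∈ D, ⁅d, d'⁆ ∈ U → ⁅d, d'⁆ = 1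
  sqTriv : ∀ d ∈ D, d * d ∈ U → d * d = 1
  ynorm : ∀ X : Subgroup G, U ≤ X → X ≤ D → y ∈ normalizer (X : Set G)

variable {S D U D₁ U₁ D₂ U₂ D₃ U₃ : Subgroup G} {y y₁ y₂ y₃ : G}

theorem Ess.central_of_commute (h : Ess S D U y) {u a : G} (hu : u ∈ U) (ha : a ∈ S) (haD : a ∉ D)
    (hc : u * a = a * u) : ∀ s ∈ S, u * s = s * u := fun s hs => by
  by_cases hsD : s ∈ D
  · exact h.cent u hu s hsD
  · have h1 : Commute u (a * s) := h.cent u hu _ (h.two a ha s hs haD hsD)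
    have h2 := (Commute.inv_right (show Commute u a from hc)).mul_right h1
    rw [inv_mul_cancel_left] at h2
    exact h2.eq

theorem Ess.ne_bot (h : Ess S D U y) : U ≠ ⊥ := fun e => by
  obtain ⟨u, hu, s, -, hne⟩ := h.nc
  rw [e, Subgroup.mem_bot] at hu
  exact hne (by rw [hu, one_mul, mul_one])

theorem linked_symm (h₁ : Ess S D₁ U₁ y₁) (h₂ : Ess S D₂ U₂ y₂) (h12 : ¬ U₁ ≤ D₂) : ¬ U₂ ≤ D₁ := by
  intro hle
  obtain ⟨u₁, hu₁, hu₁D⟩ := SetLike.not_le_iff_exists.1 h12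
  obtain ⟨v, hv, s, hs, hne⟩ := h₂.nc
  exact hne (h₂.central_of_commute hv (h₁.le (h₁.Ule hu₁)) hu₁D (h₁.cent u₁ hu₁ v (hle hv)).symm s hs)

/-- An essential subgroup has at most one linked partner. -/
theorem le_of_linked (h₁ : Ess S D₁ U₁ y₁) (h₂ : Ess S D₂ U₂ y₂) (h₃ : Ess S D₃ U₃ y₃)
    (h12 : ¬ U₁ ≤ D₂) (h13 : ¬ U₁ ≤ D₃) : D₂ ≤ D₃ := by
  obtain ⟨u₁, hu₁, hu12, hu13⟩ : ∃ u ∈ U₁, u ∉ D₂ ∧ u ∉ D₃ := by
    obtain ⟨a, ha, ha2⟩ := SetLike.not_le_iff_exists.1 h12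
    obtain ⟨b, hb, hb3⟩ := SetLike.not_le_iff_exists.1 h13
    by_cases ha3 : a ∈ D₃
    · by_cases hb2 : b ∈ D₂
      · exact ⟨a * b, U₁.mul_mem ha hb, fun h => ha2 ((D₂.mul_mem_cancel_right hb2).1 h),
          fun h => hb3 ((D₃.mul_mem_cancel_left ha3).1 h)⟩
      · exact ⟨b, hb, hb2, hb3⟩
    · exact ⟨a, ha, ha2, ha3⟩
  obtain ⟨u₂, hu₂, hu21⟩ := SetLike.not_le_iff_exists.1 (linked_symm h₁ h₂ h12)
  obtain ⟨u₃, hu₃, hu31⟩ := SetLike.not_le_iff_exists.1 (linked_symm h₁ h₃ h13)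
  have hS2 := h₂.le (h₂.Ule hu₂)
  have hS3 := h₃.le (h₃.Ule hu₃)
  have hS1 := h₁.le (h₁.Ule hu₁)
  have hx : u₂ * u₃ ∈ D₁ := h₁.two u₂ hS2 u₃ hS3 hu21 hu31
  -- `u₃` has nontrivial commutators exactly outside `D₃`
  have hne : u₃ * u₁ ≠ u₁ * u₃ := fun hc =>
    hu31 (h₁.zle u₃ hS3 (h₃.central_of_commute hu₃ hS1 hu13 hc))
  have hval : ∀ d ∈ S, d ∉ D₃ → ⁅u₃, d⁆ = ⁅u₃, u₁⁻¹⁆ := fun d hd hdD => by
    have h1 := h₃.cent u₃ hu₃ _ (h₃.two d hd u₁ hS1 hdD hu13)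
    have hk := h₃.cent _ (h₃.comm u₃ hu₃ _ (S.inv_mem hS1)) _ (h₃.two d hd u₁ hS1 hdD hu13)
    have e : ⁅u₃, d⁆ = (d * u₁) * ⁅u₃, u₁⁻¹⁆ * (d * u₁)⁻¹ := by
      simp only [commutatorElement_def, inv_inv]
      calc u₃ * d * u₃⁻¹ * d⁻¹ = u₃ * (d * u₁) * u₁⁻¹ * u₃⁻¹ * d⁻¹ := by group
        _ = d * u₁ * u₃ * u₁⁻¹ * u₃⁻¹ * d⁻¹ := by rw [h1]
        _ = d * u₁ * (u₃ * u₁⁻¹ * u₃⁻¹ * u₁) * (d * u₁)⁻¹ := by group
    rw [e, ← hk, mul_inv_cancel_right]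
  have hU : ∀ d ∈ S, d ∉ D₃ → ⁅u₃, d⁆ ∈ U₁ := fun d hd hdD => by
    rw [hval d hd hdD, ← commutatorElement_inv]
    exact U₁.inv_mem (h₁.comm _ (U₁.inv_mem hu₁) _ hS3)
  have hu2D3 : u₂ ∈ D₃ := by
    by_contra hcon
    have e : u₂ * u₃ * (u₂ * u₃) = ⁅u₃, u₂⁆⁻¹ := by
      have i2 : u₂⁻¹ = u₂ := inv_eq_of_mul_eq_one_right (h₂.sq u₂ hu₂)
      have i3 : u₃⁻¹ = u₃ := inv_eq_of_mul_eq_one_right (h₃.sq u₃ hu₃)
      simp only [commutatorElement_def, mul_inv_rev, inv_inv, i2, i3, mul_assoc]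
    have hmem : u₂ * u₃ * (u₂ * u₃) ∈ U₁ := by rw [e]; exact U₁.inv_mem (hU u₂ hS2 hcon)
    have h1 := h₁.sqTriv _ hx hmem
    rw [e, inv_eq_one, hval u₂ hS2 hcon, commutatorElement_eq_one_iff_mul_comm] at h1
    exact hne ((Commute.inv_right_iff).1 h1).eq
  intro d hd
  by_cases hd1 : d ∈ D₁
  · by_contra hd3
    have hu2d : u₂ * d = d * u₂ := h₂.cent u₂ hu₂ d hd
    have hu23 : u₂ * u₃ = u₃ * u₂ := (h₃.cent u₃ hu₃ u₂ hu2D3).symm
    have e : ⁅u₂ * u₃, d⁆ = u₂ * ⁅u₃, d⁆ * u₂⁻¹ := by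
      simp only [commutatorElement_def]
      have h' : d⁻¹ * u₂⁻¹ = u₂⁻¹ * d⁻¹ := by rw [← mul_inv_rev, ← mul_inv_rev, hu2d]
      have hd'' : u₂ * d * u₂⁻¹ = d := by rw [hu2d, mul_inv_cancel_right]
      calc u₂ * u₃ * d * (u₂ * u₃)⁻¹ * d⁻¹ = u₂ * (u₃ * d * u₃⁻¹) * (u₂⁻¹ * d⁻¹) := by group
        _ = u₂ * (u₃ * d * u₃⁻¹) * (d⁻¹ * u₂⁻¹) := by rw [h']
        _ = u₂ * (u₃ * d * u₃⁻¹ * d⁻¹) * u₂⁻¹ := by group
    have hdS := h₂.le hd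
    have hk : u₂ * ⁅u₃, d⁆ * u₂⁻¹ = ⁅u₃, d⁆ := by
      have hc : ⁅u₃, d⁆ ∈ D₃ := h₃.Ule (h₃.comm u₃ hu₃ d hdS)
      have := h₃.cent _ (h₃.comm u₃ hu₃ d hdS) u₂ hu2D3
      rw [← this, mul_inv_cancel_right]
    have hmem : ⁅u₂ * u₃, d⁆ ∈ U₁ := by rw [e, hk]; exact hU d hdS hd3
    have h1 := h₁.commTriv _ hx d hd1 hmem
    rw [e, hk, hval d hdS hd3, commutatorElement_eq_one_iff_mul_comm] at h1
    exact hne ((Commute.inv_right_iff).1 h1).eq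
  · have hd2 : u₂ * d ∈ D₂ := D₂.mul_mem (h₂.Ule hu₂) hd
    have hd12 : u₂ * d ∈ D₁ := h₁.two u₂ hS2 d (h₂.le hd) hu21 hd1
    refine (D₃.mul_mem_cancel_left hu2D3).1 ?_
    by_contra hd3
    have hu2d : u₂ * (u₂ * d) = u₂ * d * u₂ := h₂.cent u₂ hu₂ _ hd2
    have hdS : u₂ * d ∈ S := h₂.le hd2
    generalize u₂ * d = f at hd2 hd12 hd3 hu2d hdS
    have e : ⁅u₂ * u₃, f⁆ = u₂ * ⁅u₃, f⁆ * u₂⁻¹ := by
      simp only [commutatorElement_def]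
      have h' : f⁻¹ * u₂⁻¹ = u₂⁻¹ * f⁻¹ := by rw [← mul_inv_rev, ← mul_inv_rev, hu2d]
      calc u₂ * u₃ * f * (u₂ * u₃)⁻¹ * f⁻¹ = u₂ * (u₃ * f * u₃⁻¹) * (u₂⁻¹ * f⁻¹) := by group
        _ = u₂ * (u₃ * f * u₃⁻¹) * (f⁻¹ * u₂⁻¹) := by rw [h']
        _ = u₂ * (u₃ * f * u₃⁻¹ * f⁻¹) * u₂⁻¹ := by group
    have hk : u₂ * ⁅u₃, f⁆ * u₂⁻¹ = ⁅u₃, f⁆ := by
      rw [← h₃.cent _ (h₃.comm u₃ hu₃ f hdS) u₂ hu2D3, mul_inv_cancel_right]
    have hmem : ⁅u₂ * u₃, f⁆ ∈ U₁ := by rw [e, hk]; exact hU f hdS hd3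
    have h1 := h₁.commTriv _ hx f hd12 hmem
    rw [e, hk, hval f hdS hd3, commutatorElement_eq_one_iff_mul_comm] at h1
    exact hne ((Commute.inv_right_iff).1 h1).eq

/-- An essential subgroup carried along by an automorphism fixing `S`. -/
theorem Ess.map (h : Ess S D U y) (e : G ≃* G) (hS : S.map e.toMonoidHom = S) :
    Ess S (D.map e.toMonoidHom) (U.map e.toMonoidHom) (e y) := by
  have hmem : ∀ s ∈ S, e.symm s ∈ S := fun s hs => by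
    obtain ⟨x, hx, rfl⟩ := (hS.symm ▸ hs : s ∈ S.map e.toMonoidHom)
    simpa using hx
  constructor
  · exact (Subgroup.map_mono h.le).trans hS.le
  · exact Subgroup.map_mono h.Ule
  · intro z hz hc
    refine ⟨e.symm z, h.zle _ (hmem z hz) fun s hs => ?_, by simp⟩
    apply e.injective
    simpa using hc (e s) (hS ▸ Subgroup.mem_map_of_mem e.toMonoidHom hs)
  · intro a ha b hb haD hbD
    refine ⟨e.symm a * e.symm b, h.two _ (hmem a ha) _ (hmem b hb) (fun h' => haD ⟨_, h', by simp⟩)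
      (fun h' => hbD ⟨_, h', by simp⟩), by simp⟩
  · rintro _ ⟨u, hu, rfl⟩ _ ⟨d, hd, rfl⟩
    simpa using congrArg e (h.cent u hu d hd)
  · rintro _ ⟨u, hu, rfl⟩
    simpa using congrArg e (h.sq u hu)
  · rintro _ ⟨u, hu, rfl⟩ s hs
    refine ⟨⁅u, e.symm s⁆, h.comm u hu _ (hmem s hs), ?_⟩
    simp [commutatorElement_def]
  · obtain ⟨u, hu, s, hs, hne⟩ := h.nc
    exact ⟨e u, ⟨u, hu, rfl⟩, e s, hS ▸ Subgroup.mem_map_of_mem e.toMonoidHom hs,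
      fun h' => hne (e.injective (by simpa using h'))⟩
  · rintro _ ⟨d, hd, rfl⟩ _ ⟨d', hd', rfl⟩ ⟨u, hu, he⟩
    have h1 : ⁅d, d'⁆ = u := e.injective (by simp only [commutatorElement_def, map_mul, map_inv]
                                             exact he.symm)
    rw [show ⁅e.toMonoidHom d, e.toMonoidHom d'⁆ = e.toMonoidHom ⁅d, d'⁆ from
      (map_commutatorElement e.toMonoidHom d d').symm, h.commTriv d hd d' hd' (h1 ▸ hu), map_one]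
  · rintro _ ⟨d, hd, rfl⟩ ⟨u, hu, he⟩
    rw [← map_mul] at he ⊢
    have h1 : u = d * d := e.injective he
    rw [h.sqTriv d hd (h1 ▸ hu), map_one]
  · intro X hUX hXD
    have h1 := h.ynorm (X.comap e.toMonoidHom) (fun u hu => hUX ⟨u, hu, rfl⟩) (fun x hx => by
      obtain ⟨d, hd, he⟩ := hXD hx
      rwa [← e.injective he])
    rw [Subgroup.mem_normalizer_iff] at h1 ⊢
    intro x
    have := h1 (e.symm x)
    simpa using this

/-- A family of essential subgroups closed under an odd-order permutation has no linked pair. -/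
theorem not_linked_orbit (h : Ess S D U y) (e : MulAut G) (hS : S.map (MulEquiv.toMonoidHom e) = S)
    (hodd : Odd (orderOf e)) : U ≤ D.map (MulEquiv.toMonoidHom e) := by
  by_contra hcon
  have h' := h.map e hS
  have hsym := linked_symm h h' hcon
  have h'' := h'.map e hS
  have hlink : ¬ U.map (MulEquiv.toMonoidHom e) ≤ (D.map (MulEquiv.toMonoidHom e)).map (MulEquiv.toMonoidHom e) :=
    fun hle => hcon fun u hu => by
      obtain ⟨d, hd, hde⟩ := hle (Subgroup.mem_map_of_mem _ hu)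
      exact (e.injective hde) ▸ hd
  have heq : D = (D.map (MulEquiv.toMonoidHom e)).map (MulEquiv.toMonoidHom e) :=
    le_antisymm (le_of_linked h' h h'' hsym hlink) (le_of_linked h' h'' h hlink hsym)
  obtain ⟨k, hk⟩ := hodd
  have hpow : ∀ n : ℕ, D.map (MulEquiv.toMonoidHom (e ^ (2 * n))) = D := fun n => by
    induction n with
    | zero => rw [Nat.mul_zero, pow_zero]; exact Subgroup.map_id D
    | succ n ih =>
      rw [show 2 * (n + 1) = 2 * n + 1 + 1 from rfl, pow_succ' e (2 * n + 1), pow_succ' e (2 * n)]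
      rw [show MulEquiv.toMonoidHom (e * (e * e ^ (2 * n))) = (MulEquiv.toMonoidHom e).comp
        ((MulEquiv.toMonoidHom e).comp (MulEquiv.toMonoidHom (e ^ (2 * n)))) from rfl,
        ← Subgroup.map_map, ← Subgroup.map_map, ih, ← heq]
  have hfix : D.map (MulEquiv.toMonoidHom e) = D := by
    have h1 := hpow (k + 1)
    rwa [show 2 * (k + 1) = orderOf e + 1 by omega, pow_succ, pow_orderOf_eq_one, one_mul] at h1
  exact hcon (hfix.symm ▸ h.Ule)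

end Cfsg.Agent.CoprimeNilMax
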